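import Cfsg.Agent.Lib.Solv.EightSection.Chars
import Mathlib.GroupTheory.NoncommCoprod

/-!
# A nontrivial linear character from the exceptional combinations
-/

set_option autoImplicit false
set_option linter.unusedSectionVars false

namespace Cfsg.Agent.Solv.EightSection

open Cfsg Cfsg.Agent Cfsg.Agent.Char
open scoped ComplexConjugate Classical

universe u

variable {G : Type u} [Group G] [Fintype G] {t : G} {ω : Cn t →* ℂˣ} {u : Cn t}

namespace SectData

variable (h : SectData t ω u)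
include h

/-- The combinations are integers. -/
theorem int_coeff {χ : G → ℂ} (hχ : IsCharacter G χ) (i : ℕ) :
    ∃ z : ℤ, (z : ℂ) * 3 =
      avg χ u 0 + conj ((ω u : ℂ) ^ i) * avg χ u 1 + conj ((ω u : ℂ) ^ (i * 2)) * avg χ u 2 := by
  haveI := Solv.pPrimeCore_normal (G := Cn t) 2
  set π := QuotientGroup.mk' (On t) with hπ
  let B : Subgroup (Cn t) := (Subgroup.zpowers (π u)).comap π
  have hu3 : π u ^ 3 = 1 := by
    rw [← map_pow]; exact (QuotientGroup.eq_one_iff _).mpr h.u_cube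
  have hmem : ∀ (k : ℕ) (o : On t), u ^ k * (o : Cn t) ∈ B := fun k o => by
    refine Subgroup.mem_comap.mpr ?_
    rw [map_mul, map_pow, show π (o : Cn t) = 1 from (QuotientGroup.eq_one_iff _).mpr o.2, mul_one]
    exact Subgroup.pow_mem _ (Subgroup.mem_zpowers _) k
  let e : Fin 3 × On t → B := fun p => ⟨u ^ (p.1 : ℕ) * (p.2 : Cn t), hmem p.1 p.2⟩
  have he : Function.Bijective e := by
    refine ⟨fun p q hpq => ?_, fun b => ?_⟩
    · have h1 : u ^ (p.1 : ℕ) * (p.2 : Cn t) = u ^ (q.1 : ℕ) * (q.2 : Cn t) := congrArg Subtype.val hpq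
      have h2 := congrArg ω h1
      rw [h.omega_val p.2.2, h.omega_val q.2.2] at h2
      have h3 := Fin.ext (h.omega_inj p.1.2 q.1.2 h2)
      rw [h3] at h1
      exact Prod.ext h3 (Subtype.ext (mul_left_cancel h1))
    · obtain ⟨j, hj⟩ := Subgroup.mem_zpowers_iff.mp (Subgroup.mem_comap.mp b.2)
      obtain ⟨k, hk, hk'⟩ : ∃ k : ℕ, k < 3 ∧ π u ^ k = π (b : Cn t) := by
        refine ⟨(j % 3).toNat, by omega, ?_⟩
        rw [← zpow_natCast, Int.toNat_of_nonneg (Int.emod_nonneg _ (by norm_num)), ← hj]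
        conv_rhs => rw [← Int.emod_add_mul_ediv j 3]
        rw [zpow_add, zpow_mul, zpow_ofNat, hu3, one_zpow, mul_one]
      refine ⟨(⟨k, hk⟩, ⟨(u ^ k)⁻¹ * (b : Cn t), ?_⟩), Subtype.ext (mul_inv_cancel_left _ _)⟩
      refine (QuotientGroup.eq_one_iff _).mp (?_ : π ((u ^ k)⁻¹ * (b : Cn t)) = 1)
      rw [map_mul, map_inv, map_pow, hk', inv_mul_cancel]
  have hcard : (Nat.card B : ℂ) = 3 * (Nat.card (On t) : ℂ) := by
    rw [← Nat.card_congr (Equiv.ofBijective e he), Nat.card_prod, Nat.card_fin]; push_cast; rfl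
  let tC : Cn t := ⟨t, Subgroup.mem_centralizer_singleton_iff.mpr rfl⟩
  have htc : ∀ x : Cn t, Commute tC x := fun x =>
    Subtype.ext (Subgroup.mem_centralizer_singleton_iff.mp x.2).symm
  let Φ : Subgroup.zpowers tC × B →* G := (Cn t).subtype.comp
    ((Subgroup.zpowers tC).subtype.noncommCoprod B.subtype fun a b => by
      obtain ⟨j, hj⟩ := Subgroup.mem_zpowers_iff.mp a.2
      show Commute (a : Cn t) (b : Cn t)
      rw [← hj]
      exact (htc b).zpow_left j)
  let l : B →* ℂˣ := (powMonoidHom i).comp (ω.comp B.subtype)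
  obtain ⟨n₁, hn₁⟩ := classInner_natCast (isCharacter_comp Φ hχ)
    (isCharacter_linear (l.comp (MonoidHom.snd (Subgroup.zpowers tC) B)))
  obtain ⟨n₂, hn₂⟩ := classInner_natCast (isCharacter_comp ((Cn t).subtype.comp B.subtype) hχ)
    (isCharacter_linear l)
  refine ⟨2 * (n₁ : ℤ) - n₂, ?_⟩
  have htC : orderOf tC = 2 := by rw [← Subgroup.orderOf_coe, h.order]
  have hz2 : Nat.card (Subgroup.zpowers tC) = 2 := by rw [Nat.card_zpowers, htC]
  have huniv : (Finset.univ : Finset (Subgroup.zpowers tC)) =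
      {1, ⟨tC, Subgroup.mem_zpowers tC⟩} := by
    symm
    apply Finset.eq_univ_of_card
    rw [Finset.card_pair, ← Nat.card_eq_fintype_card, hz2]
    intro h1
    have := congrArg (fun x : Subgroup.zpowers tC => orderOf (x : Cn t)) h1
    simp [htC] at this
  rw [classInner, Nat.card_prod, hz2, Fintype.sum_prod_type, huniv, Finset.sum_pair] at hn₁
  swap
  · intro h1
    have := congrArg (fun x : Subgroup.zpowers tC => orderOf (x : Cn t)) h1
    simp [htC] at this
  rw [classInner] at hn₂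
  have hΦ1 : ∀ b : B, Φ (1, b) = ((b : Cn t) : G) := fun b => by simp [Φ]
  have hΦt : ∀ b : B, Φ (⟨tC, Subgroup.mem_zpowers tC⟩, b) = t * ((b : Cn t) : G) := fun b => by
    simp [Φ, tC]
  simp only [Function.comp_apply, hΦ1, hΦt, MonoidHom.comp_apply, MonoidHom.coe_snd,
    Subgroup.coe_subtype] at hn₁ hn₂
  have key : (Nat.card B : ℂ)⁻¹ *
      ∑ b : B, χ (t * ((b : Cn t) : G)) * conj ((l b : ℂ)) = ((2 * (n₁ : ℤ) - n₂ : ℤ) : ℂ) := by
    push_cast at hn₁ hn₂ ⊢
    rw [← hn₁, ← hn₂, mul_inv]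
    ring
  rw [← key, hcard, ← (Equiv.ofBijective e he).sum_comp, Fintype.sum_prod_type, Fin.sum_univ_three]
  have hl : ∀ (k : Fin 3) (o : On t),
      (l (Equiv.ofBijective e he (k, o)) : ℂ) = (ω u : ℂ) ^ (i * (k : ℕ)) := fun k o => by
    show (((ω (u ^ (k : ℕ) * (o : Cn t))) ^ i : ℂˣ) : ℂ) = _
    rw [h.omega_val o.2, ← pow_mul, Units.val_pow_eq_pow_val, mul_comm]
  simp only [hl, ← Finset.sum_mul]
  simp only [Equiv.ofBijective_apply, e, avg, mul_inv, Fin.val_zero, Fin.val_one, Fin.val_two,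
    mul_zero, mul_one, pow_zero, map_one, pow_one]
  ring

theorem cube_facts : (ω u : ℂ) ^ 3 = 1 ∧ 1 + (ω u : ℂ) + (ω u : ℂ) ^ 2 = 0 ∧
    conj (ω u : ℂ) = (ω u : ℂ) ^ 2 := by
  refine ⟨h.isPrimitive.pow_eq_one, ?_, ?_⟩
  · have := h.isPrimitive.geom_sum_eq_zero (by norm_num)
    simpa [Finset.sum_range_succ] using this
  · rw [← Complex.inv_eq_conj (Complex.norm_eq_one_of_pow_eq_one h.isPrimitive.pow_eq_one
      (by norm_num))]
    exact inv_eq_of_mul_eq_one_right (by rw [← h.isPrimitive.pow_eq_one]; ring)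

/-- Inner products of combinations of the averages. -/
theorem sum_comb (c₁ c₂ d₁ d₂ : ℂ) :
    ∑ χ : IrrCharacter G,
      (avg (χ : G → ℂ) u 0 + c₁ * avg (χ : G → ℂ) u 1 + c₂ * avg (χ : G → ℂ) u 2) *
        conj (avg (χ : G → ℂ) u 0 + d₁ * avg (χ : G → ℂ) u 1 + d₂ * avg (χ : G → ℂ) u 2) =
      24 + 6 * (c₁ * conj d₁) + 6 * (c₂ * conj d₂) := by
  have e : ∀ χ : IrrCharacter G,
      (avg (χ : G → ℂ) u 0 + c₁ * avg (χ : G → ℂ) u 1 + c₂ * avg (χ : G → ℂ) u 2) *
        conj (avg (χ : G → ℂ) u 0 + d₁ * avg (χ : G → ℂ) u 1 + d₂ * avg (χ : G → ℂ) u 2) =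
      avg (χ : G → ℂ) u 0 * conj (avg (χ : G → ℂ) u 0)
      + conj d₁ * (avg (χ : G → ℂ) u 0 * conj (avg (χ : G → ℂ) u 1))
      + conj d₂ * (avg (χ : G → ℂ) u 0 * conj (avg (χ : G → ℂ) u 2))
      + c₁ * (avg (χ : G → ℂ) u 1 * conj (avg (χ : G → ℂ) u 0))
      + c₁ * conj d₁ * (avg (χ : G → ℂ) u 1 * conj (avg (χ : G → ℂ) u 1))
      + c₁ * conj d₂ * (avg (χ : G → ℂ) u 1 * conj (avg (χ : G → ℂ) u 2))
      + c₂ * (avg (χ : G → ℂ) u 2 * conj (avg (χ : G → ℂ) u 0))
      + c₂ * conj d₁ * (avg (χ : G → ℂ) u 2 * conj (avg (χ : G → ℂ) u 1))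
      + c₂ * conj d₂ * (avg (χ : G → ℂ) u 2 * conj (avg (χ : G → ℂ) u 2)) := by
    intro χ
    simp only [map_add, map_mul]
    ring
  simp only [e, Finset.sum_add_distrib, ← Finset.mul_sum, h.sum_avg_self_zero,
    h.sum_avg_self (Or.inl rfl), h.sum_avg_self (Or.inr rfl),
    h.sum_avg_ne (k := 0) (l := 1) (by norm_num) (by norm_num) (by norm_num),
    h.sum_avg_ne (k := 0) (l := 2) (by norm_num) (by norm_num) (by norm_num),
    h.sum_avg_ne (k := 1) (l := 0) (by norm_num) (by norm_num) (by norm_num),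
    h.sum_avg_ne (k := 1) (l := 2) (by norm_num) (by norm_num) (by norm_num),
    h.sum_avg_ne (k := 2) (l := 0) (by norm_num) (by norm_num) (by norm_num),
    h.sum_avg_ne (k := 2) (l := 1) (by norm_num) (by norm_num) (by norm_num)]
  ring

/-- Outside the principal block the average vanishes; inside it is the value at `t`. -/
theorem avg_zero_cases (χ : IrrCharacter G) :
    avg (χ : G → ℂ) u 0 = 0 ∨ avg (χ : G → ℂ) u 0 = (χ : G → ℂ) t := by
  obtain ⟨M, hM⟩ := exists_pModular (p := 2) Nat.prime_two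
  haveI := Solv.pPrimeCore_normal (G := Cn t) 2
  haveI : Group.IsSolvable (Cn t) := h.solvable
  have hx : ∃ k : ℕ, orderOf t = 2 ^ k := ⟨1, by rw [h.order, pow_one]⟩
  have hin : ∀ χ ∈ principalBlock M G, avg ((χ : IrrCharacter G) : G → ℂ) u 0 = (χ : G → ℂ) t := by
    intro χ hχ
    have e : ∀ o : On t, (χ : G → ℂ) (t * ((u ^ 0 * (o : Cn t) : Cn t) : G)) = (χ : G → ℂ) t := by
      intro o
      have hodd : ¬ 2 ∣ orderOf ((o : Cn t) * 1) := by
        have := h.odd_of_mem (k := 0) o.2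
        rw [pow_zero, one_mul] at this
        rw [mul_one]
        exact this.not_two_dvd_nat
      have := principal_section_const hM hx (On t) h.card_core_odd χ hχ 1 o o.2 (by simp) hodd
      simpa using this
    rw [avg, Finset.sum_congr rfl fun o _ => e o, Finset.sum_const, Finset.card_univ,
      ← Nat.card_eq_fintype_card, nsmul_eq_mul, inv_mul_cancel_left₀
      (Nat.cast_ne_zero.mpr Nat.card_pos.ne')]
  by_cases hχ : χ ∈ principalBlock M G
  · exact Or.inr (hin χ hχ)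
  · left
    have h1 := sum_block_section_orth hM hx (isPBlock_principalBlock (G := G) M)
      (1 : Cn t) 1 (by simp) (by simp)
    rw [principal_section_filter hM hx, Finset.sum_singleton] at h1
    have h2 : ∑ ξ : IrrCharacter (Cn t) with ξ ∈ principalBlock M (Cn t),
        conj ((ξ : Cn t → ℂ) 1) * (ξ : Cn t → ℂ) 1 = ((On t).index : ℂ) := by
      rw [← sum_sq_trivial_on (On t) (pmod_prime hM)]
      refine Finset.sum_congr (Finset.filter_congr fun ξ _ => ?_) fun ξ _ => by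
        rw [conj_char_one (irr_isCharacter ξ.2)]
      rw [SolvPrincipal.mem_principal_iff hM ξ]
      exact ⟨fun hh n hn => hh hn ξ rfl, fun hh n hn φ hφ => by
        rw [Set.mem_singleton_iff.mp hφ]; exact hh n hn⟩
    rw [h2, h.index] at h1
    have h3 := h.sum_avg_self_zero
    rw [← Finset.sum_filter_add_sum_filter_not Finset.univ (· ∈ principalBlock M G)] at h3
    have h4 : ∑ ξ : IrrCharacter G with ξ ∈ principalBlock M G,
        avg (ξ : G → ℂ) u 0 * conj (avg (ξ : G → ℂ) u 0) = 24 := by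
      rw [Finset.sum_congr rfl (g := fun ξ : IrrCharacter G =>
        conj ((ξ : G → ℂ) (t * ((1 : Cn t) : G))) * (ξ : G → ℂ) (t * ((1 : Cn t) : G))) fun ξ hξ => by
        rw [hin ξ (Finset.mem_filter.mp hξ).2, mul_comm, Subgroup.coe_one, mul_one]]
      simpa using h1
    rw [h4, add_eq_left] at h3
    simp only [Complex.mul_conj, ← Complex.ofReal_sum, Complex.ofReal_eq_zero] at h3
    have h5 := (Finset.sum_eq_zero_iff_of_nonneg fun ξ _ => Complex.normSq_nonneg _).mp h3 χ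
      (Finset.mem_filter.mpr ⟨Finset.mem_univ _, hχ⟩)
    exact Complex.normSq_eq_zero.mp h5

/-- **A nontrivial linear character.** -/
theorem exists_linear_char : ∃ l : G →* ℂˣ, l ≠ 1 := by
  obtain ⟨hζ3, hsum, hconj⟩ := h.cube_facts
  set ζ : ℂ := (ω u : ℂ) with hζ
  choose z hz using fun (χ : IrrCharacter G) (i : Fin 3) => h.int_coeff (irr_isCharacter χ.2) (i : ℕ)
  let A : Fin 3 → IrrCharacter G → ℂ := fun i χ =>
    avg (χ : G → ℂ) u 0 + conj (ζ ^ (i : ℕ)) * avg (χ : G → ℂ) u 1 +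
      conj (ζ ^ ((i : ℕ) * 2)) * avg (χ : G → ℂ) u 2
  have hA : ∀ i χ, A i χ = (z χ i : ℂ) * 3 := fun i χ => (hz χ i).symm
  let one : IrrCharacter G := ⟨fun _ => 1, isIrrCharacter_one⟩
  have hc2 : conj (ζ ^ 2) = ζ := by rw [map_pow, hconj]; linear_combination ζ * hζ3
  have hc4 : conj (ζ ^ 4) = ζ ^ 2 := by
    rw [map_pow, hconj]; linear_combination (ζ ^ 5 + ζ ^ 2) * hζ3
  have hv : ∀ χ, avg ((χ : IrrCharacter G) : G → ℂ) u 0 = ((z χ 0 + z χ 1 + z χ 2 : ℤ) : ℂ) := by
    intro χ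
    have h0 := hA 0 χ
    have h1 := hA 1 χ
    have h2 := hA 2 χ
    simp only [A, Fin.val_zero, Fin.val_one, Fin.val_two, zero_mul, one_mul, pow_zero, pow_one,
      map_one, hconj, hc2, show 2 * 2 = 4 from rfl, hc4] at h0 h1 h2
    push_cast
    linear_combination (1 / 3 : ℂ) * (h0 + h1 + h2) -
      (1 / 3 : ℂ) * (avg (χ : G → ℂ) u 1 + avg (χ : G → ℂ) u 2) * hsum
  have hzreal : ∀ χ i, conj ((z χ i : ℤ) : ℂ) = (z χ i : ℂ) := fun χ i => map_intCast _ _
  suffices hex : ∃ χ, χ ≠ one ∧ deg (χ : G → ℂ) = 1 by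
    obtain ⟨χ, hχ1, hχd⟩ := hex
    obtain ⟨l, hl⟩ := exists_hom_of_degree_one (irr_isCharacter χ.2)
      (by rw [char_one_eq_deg (irr_isCharacter χ.2), hχd, Nat.cast_one])
    refine ⟨l, fun h1 => hχ1 (Subtype.ext ?_)⟩
    rw [hl, h1]
    rfl
  refine exists_linear one (fun χ : IrrCharacter G => deg (χ : G → ℂ))
    (fun χ => (χ : G → ℂ) t) (fun i χ => z χ i) (fun χ => deg_pos χ.2) ?_ ?_ ?_ ?_ ?_ ?_ ?_
  · have := char_one_eq_deg (irr_isCharacter one.2)
    rw [show (one : G → ℂ) 1 = 1 from rfl] at this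
    exact_mod_cast this.symm
  · intro i
    have h1 := hA i one
    simp only [A, show (one : G → ℂ) = fun _ => 1 from rfl, h.avg_one, mul_one] at h1
    fin_cases i <;> simp [hconj, hc2, hc4] at h1 ⊢
    · have : (z one 0 : ℂ) = ((1 : ℤ) : ℂ) := by push_cast; linear_combination -(1 / 3 : ℂ) * h1
      exact_mod_cast this
    · have : (z one 1 : ℂ) = ((0 : ℤ) : ℂ) := by
        push_cast; linear_combination -(1 / 3 : ℂ) * h1 + (1 / 3 : ℂ) * hsum
      exact_mod_cast this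
    · have : (z one 2 : ℂ) = ((0 : ℤ) : ℂ) := by
        push_cast; linear_combination -(1 / 3 : ℂ) * h1 + (1 / 3 : ℂ) * hsum
      exact_mod_cast this
  · intro i j
    have h1 : ∑ χ, A i χ * conj (A j χ) = _ := h.sum_comb _ _ _ _
    simp only [hA, map_mul, hzreal, map_ofNat, Complex.conj_conj, map_pow] at h1
    have h2 : ((∑ χ, z χ i * z χ j : ℤ) : ℂ) * 9 =
        24 + 6 * (conj ζ ^ (i : ℕ) * ζ ^ (j : ℕ)) +
          6 * (conj ζ ^ ((i : ℕ) * 2) * ζ ^ ((j : ℕ) * 2)) := by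
      rw [← h1]
      push_cast
      rw [Finset.sum_mul]
      exact Finset.sum_congr rfl fun χ _ => by ring
    rw [hconj] at h2
    apply Int.cast_injective (α := ℂ)
    rw [apply_ite (Int.cast (R := ℂ))]
    fin_cases i <;> fin_cases j <;> simp [← pow_mul] at h2 ⊢ <;>
      first
      | linear_combination (1 / 9 : ℂ) * h2
      | linear_combination (1 / 9 : ℂ) * h2 + (2 / 3 : ℂ) * hsum
      | linear_combination (1 / 9 : ℂ) * h2 + (2 / 3 : ℂ) * hsum + (2 / 3 : ℂ) * ζ * hζ3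
      | linear_combination (1 / 9 : ℂ) * h2 + (2 / 3 : ℂ) * hsum +
          (2 / 3 : ℂ) * (ζ + ζ ^ 2 + ζ ^ 5) * hζ3
      | linear_combination (1 / 9 : ℂ) * h2 + (2 / 3 : ℂ) * (ζ ^ 3 + 2) * hζ3
      | linear_combination (1 / 9 : ℂ) * h2 + (2 / 3 : ℂ) * (ζ ^ 9 + ζ ^ 6 + 2 * ζ ^ 3 + 2) * hζ3
      | linear_combination (1 / 9 : ℂ) * h2 + (2 / 3 : ℂ) * hsum +
          (2 / 3 : ℂ) * (ζ + ζ ^ 2 + ζ ^ 4 + ζ ^ 7) * hζ3
  · intro i
    apply Int.cast_injective (α := ℂ)
    push_cast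
    have h1 : ∑ χ : IrrCharacter G, A i χ * (χ : G → ℂ) 1 = 0 := by
      simp only [A, add_mul, mul_assoc, Finset.sum_add_distrib, ← Finset.mul_sum, h.sum_deg_avg,
        mul_zero, add_zero]
    have h2 : (∑ χ : IrrCharacter G, (z χ i : ℂ) * (deg (χ : G → ℂ) : ℂ)) * 3 = 0 := by
      rw [← h1, Finset.sum_mul]
      exact Finset.sum_congr rfl fun χ _ => by
        rw [hA, char_one_eq_deg (irr_isCharacter χ.2)]; ring
    exact (mul_eq_zero.mp h2).resolve_right (by norm_num)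
  · intro χ hne
    rcases h.avg_zero_cases χ with h1 | h1
    · rw [hv] at h1
      exact absurd (Int.cast_eq_zero.mp h1) hne
    · rw [← h1, hv]
  · intro χ hne
    have hval : (χ : G → ℂ) t = ((z χ 0 + z χ 1 + z χ 2 : ℤ) : ℂ) := by
      rcases h.avg_zero_cases χ with h1 | h1
      · rw [hv] at h1
        exact absurd (Int.cast_eq_zero.mp h1) hne
      · rw [← h1, hv]
    obtain ⟨E, hE8, hEc⟩ := h.eight
    obtain ⟨n, hn⟩ := classInner_natCast (isCharacter_comp E.subtype (irr_isCharacter χ.2))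
      (isCharacter_one (G := E))
    refine ⟨n, ?_⟩
    rw [classInner, hE8, ← Finset.add_sum_erase _ _ (Finset.mem_univ (1 : E)),
      Finset.sum_congr rfl (g := fun _ => (χ : G → ℂ) t) fun x hx => ?_, Finset.sum_const,
      Finset.card_erase_of_mem (Finset.mem_univ _), Finset.card_univ, ← Nat.card_eq_fintype_card,
      hE8, hval] at hn
    · apply Int.cast_injective (α := ℂ)
      simp at hn
      rw [char_one_eq_deg (irr_isCharacter χ.2)] at hn
      push_cast
      linear_combination (8 : ℂ) * hn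
    · have hx1 : (x : G) ≠ 1 := fun he => (Finset.mem_erase.mp hx).1 (Subtype.ext he)
      obtain ⟨g, hg⟩ := isConj_iff.mp (hEc x x.2 hx1)
      simp only [Function.comp_apply, Subgroup.coe_subtype, map_one, mul_one, ← hg]
      exact isClassFunction_character (irr_isCharacter χ.2) t g
  · have key : ∀ i : Fin 3, ∑ χ : IrrCharacter G,
        (z χ i : ℂ) * ((χ : G → ℂ) t ^ 2 / (χ : G → ℂ) 1) =
        (1 / 3 : ℂ) * ∑ χ : IrrCharacter G,
          conj (avg (χ : G → ℂ) u 0) * ((χ : G → ℂ) t ^ 2 / (χ : G → ℂ) 1) := by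
      intro i
      have e : ∀ χ, (z χ i : ℂ) = (1 / 3 : ℂ) * conj (A i χ) := fun χ => by
        rw [hA, map_mul, hzreal, map_ofNat]; ring
      simp only [e, A, map_add, map_mul, Complex.conj_conj, mul_add, add_mul, mul_assoc,
        Finset.sum_add_distrib, ← Finset.mul_sum, h.sum_avg_sq_div (Or.inl rfl),
        h.sum_avg_sq_div (Or.inr rfl), mul_zero, add_zero]
    simp only [← char_one_eq_deg (irr_isCharacter (Subtype.prop _)), Int.cast_sub, sub_mul,
      Finset.sum_sub_distrib, key, sub_self]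

end SectData

end Cfsg.Agent.Solv.EightSection
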