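import Cfsg.Agent.Lib.Solv.EightSection.Chars
import Cfsg.Agent.Lib.Fusion.SolvableBalance
import Cfsg.Agent.Lib.Fusion.Cores
import Mathlib.GroupTheory.PGroup
import Mathlib.RingTheory.RootsOfUnity.Complex

/-!
# The structure of the centralizer of an involution
-/

set_option autoImplicit false
set_option linter.unusedSectionVars false

namespace Cfsg.Agent.Solv.EightSection

open Cfsg Cfsg.Agent
open scoped Classical

section Auto

variable {E : Type*} [Group E] [Finite E]

theorem comm_of_sq (h2 : ∀ x : E, x * x = 1) (a b : E) : a * b = b * a := by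
  have hi : ∀ x : E, x⁻¹ = x := fun x => inv_eq_of_mul_eq_one_left (h2 x)
  have := hi (a * b)
  rw [mul_inv_rev, hi, hi] at this
  exact this.symm

/-- An odd-order automorphism of `E₈` fixing two independent elements is trivial. -/
theorem auto_eq_one (h2 : ∀ x : E, x * x = 1) (h8 : Nat.card E = 8) {g : MulAut E}
    (hg : Odd (orderOf g)) {a b : E} (ha : a ≠ 1) (hb : b ≠ 1) (hab : a ≠ b)
    (hga : g a = a) (hgb : g b = b) : g = 1 := by
  have hcomm := comm_of_sq h2
  let F : Subgroup E :=
    { carrier := {1, a, b, a * b}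
      one_mem' := by simp
      inv_mem' := fun {x} hx => by rw [inv_eq_of_mul_eq_one_left (h2 x)]; exact hx
      mul_mem' := by
        intro x y hx hy
        have e1 : a * (a * b) = b := by rw [← mul_assoc, h2, one_mul]
        have e2 : b * (a * b) = a := by rw [hcomm a b, ← mul_assoc, h2, one_mul]
        have e3 : a * b * a = b := by rw [hcomm a b, mul_assoc, h2, mul_one]
        have e4 : a * b * b = a := by rw [mul_assoc, h2, mul_one]
        have e5 : b * a = a * b := hcomm b a
        simp only [Set.mem_insert_iff, Set.mem_singleton_iff] at hx hy ⊢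
        rcases hx with rfl | rfl | rfl | rfl <;> rcases hy with rfl | rfl | rfl | rfl <;>
          simp [h2, e1, e2, e3, e4, e5] }
  have hF4 : Nat.card F = 4 := by
    change Nat.card ({1, a, b, a * b} : Set E) = 4
    have h1 : (1 : E) ≠ a * b := fun h => hab (by
      calc a = a * (a * b) := by rw [← h, mul_one]
        _ = b := by rw [← mul_assoc, h2, one_mul])
    have h3 : a ≠ a * b := fun h => hb (left_eq_mul.mp h)
    have h4 : b ≠ a * b := fun h => ha (right_eq_mul.mp h)
    rw [Nat.card_coe_set_eq]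
    rw [Set.ncard_insert_of_notMem (by simp [ha.symm, hb.symm, h1]),
      Set.ncard_insert_of_notMem (by simp [hab, h3]), Set.ncard_pair h4]
  have hidx : F.index = 2 := by
    have := F.card_mul_index
    rw [hF4, h8] at this
    omega
  have hfix : ∀ x ∈ F, g x = x := by
    intro x hx
    change x ∈ ({1, a, b, a * b} : Set E) at hx
    simp only [Set.mem_insert_iff, Set.mem_singleton_iff] at hx
    rcases hx with rfl | rfl | rfl | rfl <;> simp [hga, hgb]
  have hd : ∀ y, y⁻¹ * g y ∈ F := by
    intro y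
    by_cases hy : y ∈ F
    · rw [hfix y hy, inv_mul_cancel]; exact one_mem F
    · rw [Subgroup.mul_mem_iff_of_index_two hidx, inv_mem_iff]
      refine ⟨fun h => absurd h hy, fun h => absurd ?_ hy⟩
      have : g (g y) = g y := hfix _ h
      rwa [g.injective this] at h
  have hsq : g ^ 2 = 1 := by
    ext y
    rw [pow_two, MulAut.mul_apply, MulAut.one_apply]
    have e : g y = y * (y⁻¹ * g y) := by rw [mul_inv_cancel_left]
    rw [congrArg g e, map_mul, hfix _ (hd y)]
    calc g y * (y⁻¹ * g y) = g y * g y * y⁻¹ := by rw [hcomm y⁻¹ (g y), mul_assoc]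
      _ = y := by rw [h2, one_mul, inv_eq_of_mul_eq_one_left (h2 y)]
  have h1 := orderOf_dvd_of_pow_eq_one hsq
  rcases (Nat.dvd_prime Nat.prime_two).mp h1 with h | h
  · exact orderOf_eq_one_iff.mp h
  · rw [h] at hg; exact absurd hg (by decide)

/-- An odd-order group of automorphisms of `E₈` fixing an involution has order one or three. -/
theorem card_fixing (h2 : ∀ x : E, x * x = 1) (h8 : Nat.card E = 8) {t : E} (ht : t ≠ 1)
    (K : Subgroup (MulAut E)) (hK : Odd (Nat.card K)) (hfix : ∀ g ∈ K, g t = t) :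
    (Nat.card K = 1 ∨ Nat.card K = 3) ∧
      ∀ g ∈ K, g ≠ 1 → ∀ x, g x = x → x = 1 ∨ x = t := by
  have hodd : ∀ g ∈ K, Odd (orderOf g) := fun g hg => by
    refine hK.of_dvd_nat ?_
    have := orderOf_dvd_natCard (⟨g, hg⟩ : K)
    rwa [Subgroup.orderOf_mk] at this
  have hfree : ∀ g ∈ K, g ≠ 1 → ∀ x, g x = x → x = 1 ∨ x = t := by
    intro g hg hne x hx
    by_contra hcon
    push Not at hcon
    exact hne (auto_eq_one h2 h8 (hodd g hg) ht hcon.1 (Ne.symm hcon.2) (hfix g hg) hx)
  refine ⟨?_, hfree⟩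
  let X := {x : E // x ≠ 1 ∧ x ≠ t}
  have hX : Nat.card X = 6 := by
    have h1 : Nat.card X = ({1, t}ᶜ : Set E).ncard := by
      rw [← Nat.card_coe_set_eq]
      exact Nat.card_congr (Equiv.subtypeEquivRight fun x => by simp)
    rw [h1, Set.ncard_compl _ (Set.toFinite _), Set.ncard_pair ht.symm, h8]
  letI : MulAction K X :=
    { smul := fun g x => ⟨(g : MulAut E) x.1,
        fun h => x.2.1 ((g : MulAut E).injective (h.trans (map_one _).symm)),
        fun h => x.2.2 ((g : MulAut E).injective (h.trans (hfix _ g.2).symm))⟩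
      one_smul := fun x => Subtype.ext rfl
      mul_smul := fun g h x => Subtype.ext rfl }
  have hfree' : ∀ (g : K) (x : X), g • x = x → g = 1 := by
    intro g x hx
    by_contra hne
    have := hfree g g.2 (fun h => hne (Subtype.ext h)) x.1 (congrArg Subtype.val hx)
    rcases this with h | h
    · exact x.2.1 h
    · exact x.2.2 h
  haveI : Nonempty X := (Nat.card_pos_iff.mp (by rw [hX]; norm_num)).1
  obtain ⟨x₀⟩ := ‹Nonempty X›
  have hle : Nat.card K ≤ 6 := hX ▸ Nat.card_le_card_of_injective (fun g : K => g • x₀)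
    (fun g h hgh => by
      have h1 : (h⁻¹ * g) • x₀ = x₀ := by
        rw [mul_smul]
        simp only at hgh
        rw [hgh, inv_smul_smul]
      exact (inv_mul_eq_one.mp (hfree' _ _ h1)).symm)
  have h5 : Nat.card K ≠ 5 := by
    intro h5
    haveI : Fact (Nat.Prime 5) := ⟨Nat.prime_five⟩
    have hP : IsPGroup 5 K := IsPGroup.of_card (n := 1) (by rw [h5, pow_one])
    have hmod := hP.card_modEq_card_fixedPoints X
    rw [hX] at hmod
    have : Nonempty (MulAction.fixedPoints K X) := by
      by_contra hno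
      rw [not_nonempty_iff] at hno
      rw [Nat.card_of_isEmpty] at hmod
      exact absurd hmod (by decide)
    obtain ⟨⟨x, hx⟩⟩ := this
    have : Subsingleton K := ⟨fun g h => by rw [hfree' g x (hx g), hfree' h x (hx h)]⟩
    rw [Nat.card_of_subsingleton 1] at h5
    omega
  rcases hK with ⟨j, hj⟩
  omega

end Auto

universe u

variable {G : Type u} [Group G] [Fintype G]

/-- The data from a Sylow 2-subgroup `E₈` with a normalizing element moving it and fixing `t`. -/
theorem exists_sectData {t : G} (ht : orderOf t = 2)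
    (hC : Group.IsSolvable (Cn t)) (S : Sylow 2 G) (h8 : Nat.card (S : Subgroup G) = 8)
    (h2 : ∀ x ∈ (S : Subgroup G), x * x = 1) (htS : t ∈ (S : Subgroup G))
    (hconj : ∀ x ∈ (S : Subgroup G), x ≠ 1 → IsConj t x)
    {g : G} (hgt : g * t = t * g) (hgn : g ∈ Subgroup.normalizer ((S : Subgroup G) : Set G))
    (hg : g ∉ Subgroup.centralizer ((S : Subgroup G) : Set G)) :
    ∃ (ω : Cn t →* ℂˣ) (u : Cn t), SectData t ω u := by
  haveI : Fact (Nat.Prime 2) := ⟨Nat.prime_two⟩
  haveI := Solv.pPrimeCore_normal (G := Cn t) 2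
  have hcomm : ∀ x ∈ (S : Subgroup G), ∀ y ∈ (S : Subgroup G), x * y = y * x := fun x hx y hy =>
    congrArg Subtype.val (comm_of_sq (E := (S : Subgroup G))
      (fun z => Subtype.ext (h2 z z.2)) ⟨x, hx⟩ ⟨y, hy⟩)
  have hSC : (S : Subgroup G) ≤ Cn t := fun x hx =>
    Subgroup.mem_centralizer_singleton_iff.mpr (hcomm x hx t htS)
  let S₀ : Subgroup (Cn t) := (S : Subgroup G).subgroupOf (Cn t)
  have hS₀8 : Nat.card S₀ = 8 := by
    rw [Nat.card_congr (Subgroup.subgroupOfEquivOfLe hSC).toEquiv, h8]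
  have hOodd : ¬ 2 ∣ Nat.card (On t) :=
    Nat.prime_two.coprime_iff_not_dvd.mp (Fusion.card_pPrimeCore_coprime 2 _).symm
  have hmeet : ∀ x ∈ S₀, x ∈ On t → x = 1 := by
    intro x hx hxO
    by_contra hne
    have h1 : orderOf x = 2 := orderOf_eq_prime (by
      rw [pow_two]; exact Subtype.ext (h2 _ hx)) hne
    have := orderOf_dvd_natCard (⟨x, hxO⟩ : On t)
    rw [Subgroup.orderOf_mk, h1] at this
    exact hOodd this
  set π := QuotientGroup.mk' (On t) with hπ
  have hπs : Function.Surjective π := QuotientGroup.mk'_surjective _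
  let R : Subgroup (Cn t ⧸ On t) := S₀.map π
  have hR8 : Nat.card R = 8 := by
    rw [← hS₀8]
    refine (Nat.card_congr (Equiv.ofBijective (fun x : S₀ => (⟨π x, Subgroup.mem_map_of_mem π x.2⟩ : R))
      ⟨fun x y hxy => ?_, fun z => ?_⟩)).symm
    · have h1 : π ((x : Cn t)⁻¹ * y) = 1 := by
        have hxy' : π (x : Cn t) = π y := congrArg Subtype.val hxy
        rw [map_mul, map_inv, hxy', inv_mul_cancel]
      have := hmeet _ (mul_mem (inv_mem x.2) y.2) ((QuotientGroup.eq_one_iff _).mp h1)
      exact Subtype.ext (inv_mul_eq_one.mp this)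
    · obtain ⟨x, hx, hxz⟩ := Subgroup.mem_map.mp z.2
      exact ⟨⟨x, hx⟩, Subtype.ext hxz⟩
  have hR2 : ∀ x : R, x * x = 1 := by
    intro x
    obtain ⟨y, hy, hyx⟩ := Subgroup.mem_map.mp x.2
    apply Subtype.ext
    rw [Subgroup.coe_mul, ← hyx, ← map_mul, Subgroup.coe_one]
    exact (congrArg π (Subtype.ext (h2 _ hy) : y * y = 1)).trans (map_one π)
  have hRodd : ¬ 2 ∣ R.index := by
    intro hd
    have h1 : R.index ∣ S₀.index := Subgroup.index_map_dvd _ hπs
    have h4 := (S : Subgroup G).card_mul_index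
    have h5 := Subgroup.card_subgroup_dvd_card (Cn t)
    rw [← S₀.card_mul_index, hS₀8, ← h4, h8] at h5
    exact S.not_dvd_index ((hd.trans h1).trans
      ((Nat.mul_dvd_mul_iff_left (by norm_num : 0 < 8)).mp h5))
  have hRp : IsPGroup 2 R := IsPGroup.of_card (n := 3) (by rw [hR8]; norm_num)
  haveI : Group.IsSolvable (Cn t) := hC
  have hsolQ : Group.IsSolvable (Cn t ⧸ On t) := inferInstance
  have hcent := Fusion.centralizer_pCore_le_of_solvable (p := 2) hsolQ Fusion.pPrimeCore_quotient_eq_bot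
  haveI := Solv.pCore_normal (G := Cn t ⧸ On t) 2
  have hcoreR : pCore 2 (Cn t ⧸ On t) ≤ R := by
    have h1 : (hRp.toSylow hRodd : Subgroup (Cn t ⧸ On t)) = R := rfl
    have h3 := (hRp.toSylow hRodd).is_maximal'
      ((Fusion.isPGroup_pCore 2 (Cn t ⧸ On t)).to_sup_of_normal_left hRp)
      le_sup_right
    rw [← h1, ← h3]
    exact le_sup_left
  have hRcore : R = pCore 2 (Cn t ⧸ On t) := by
    refine le_antisymm (fun x hx => hcent ?_) hcoreR
    refine Subgroup.mem_centralizer_iff.mpr fun y hy => ?_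
    exact congrArg Subtype.val (comm_of_sq hR2 ⟨y, hcoreR hy⟩ ⟨x, hx⟩)
  haveI hRn : R.Normal := hRcore ▸ inferInstance
  have hRc : Subgroup.centralizer (R : Set (Cn t ⧸ On t)) ≤ R := by rw [hRcore]; exact hcent
  let ψ : (Cn t ⧸ On t) →* MulAut R := MulAut.conjNormal
  have hψval : ∀ x (y : R), ((ψ x y : R) : Cn t ⧸ On t) = x * y * x⁻¹ := fun x y =>
    MulAut.conjNormal_apply _ _
  have hker : ψ.ker = R := by
    refine le_antisymm (fun x hx => hRc (Subgroup.mem_centralizer_iff.mpr fun y hy => ?_)) fun x hx => ?_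
    · have h1 := congrArg Subtype.val (DFunLike.congr_fun (MonoidHom.mem_ker.mp hx) ⟨y, hy⟩)
      rw [hψval] at h1
      simp only [MulAut.one_apply] at h1
      exact (mul_inv_eq_iff_eq_mul.mp h1).symm
    · refine MonoidHom.mem_ker.mpr (MulEquiv.ext fun y => Subtype.ext ?_)
      have hxy : x * (y : Cn t ⧸ On t) = y * x := congrArg Subtype.val (comm_of_sq hR2 ⟨x, hx⟩ y)
      rw [hψval, MulAut.one_apply, hxy]
      exact mul_inv_cancel_right _ _
  have hKodd : Odd (Nat.card ψ.range) := by
    rw [← Subgroup.index_ker, hker]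
    exact Nat.not_even_iff_odd.mp fun h => hRodd h.two_dvd
  let tC : Cn t := ⟨t, Subgroup.mem_centralizer_singleton_iff.mpr rfl⟩
  let tR : R := ⟨π tC, Subgroup.mem_map_of_mem π (show tC ∈ S₀ from htS)⟩
  have htR : tR ≠ 1 := by
    intro h
    have h0 : π tC = 1 := congrArg Subtype.val h
    have := hmeet tC htS ((QuotientGroup.eq_one_iff _).mp h0)
    have := congrArg (fun x : Cn t => orderOf (x : G)) this
    simp [tC, ht] at this
  have htcen : ∀ z : Cn t ⧸ On t, z * π tC = π tC * z := by
    intro z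
    obtain ⟨c, rfl⟩ := hπs z
    rw [← map_mul, ← map_mul]
    exact congrArg π (Subtype.ext (Subgroup.mem_centralizer_singleton_iff.mp c.2))
  have hfix : ∀ k ∈ ψ.range, k tR = tR := by
    rintro _ ⟨z, rfl⟩
    refine Subtype.ext ?_
    rw [hψval]
    exact mul_inv_eq_iff_eq_mul.mpr (htcen z)
  obtain ⟨hK13, hfree⟩ := card_fixing hR2 hR8 htR ψ.range hKodd hfix
  have hindex3 : R.index = 3 := by
    rw [← Subgroup.index_ker, hker] at hK13
    refine hK13.resolve_left fun h1 => hg ?_
    have htop := Subgroup.index_eq_one.mp h1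
    have hgC : g ∈ Cn t := Subgroup.mem_centralizer_singleton_iff.mpr hgt
    refine Subgroup.mem_centralizer_iff.mpr fun s hs => ?_
    set gC : Cn t := ⟨g, hgC⟩
    set sC : Cn t := ⟨s, hSC hs⟩
    have hmem : gC * sC * gC⁻¹ * sC⁻¹ ∈ S₀ := by
      refine mul_mem ?_ (inv_mem (show sC ∈ S₀ from hs))
      exact (Subgroup.mem_normalizer_iff.mp hgn s).mp hs
    have hO : gC * sC * gC⁻¹ * sC⁻¹ ∈ On t := by
      refine (QuotientGroup.eq_one_iff _).mp (?_ : π (gC * sC * gC⁻¹ * sC⁻¹) = 1)
      have h3 : π gC ∈ R := by rw [htop]; exact Subgroup.mem_top _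
      have h4 := congrArg Subtype.val (comm_of_sq hR2 ⟨π gC, h3⟩
        ⟨π sC, Subgroup.mem_map_of_mem π (show sC ∈ S₀ from hs)⟩)
      simp only [Subgroup.coe_mul] at h4
      simp only [map_mul, map_inv]
      rw [h4]; group
    have := congrArg Subtype.val (hmeet _ hmem hO)
    simp only [Subgroup.coe_mul, Subgroup.coe_inv, Subgroup.coe_one, gC, sC] at this
    rw [mul_inv_eq_one, mul_inv_eq_iff_eq_mul] at this
    exact this.symm
  have hcardQ : Nat.card (Cn t ⧸ On t) = 24 := by rw [← R.card_mul_index, hR8, hindex3]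
  haveI : Fact (Nat.Prime 3) := ⟨Nat.prime_three⟩
  obtain ⟨ub, hub⟩ := exists_prime_orderOf_dvd_card' (G := Cn t ⧸ On t) 3 (by rw [hcardQ]; norm_num)
  obtain ⟨u, hu⟩ := hπs ub
  have hubR : ub ∉ R := fun h => by
    have := orderOf_dvd_natCard (⟨ub, h⟩ : R)
    rw [Subgroup.orderOf_mk, hub, hR8] at this
    norm_num at this
  let Z := Subgroup.centralizer ({ub} : Set (Cn t ⧸ On t))
  have hZ : Nat.card Z = 6 := by
    have h1 : Nat.card (R.subgroupOf Z) = 2 := by
      have e : (R.subgroupOf Z : Set Z) = {1, ⟨π tC, Subgroup.mem_centralizer_singleton_iff.mpr (htcen ub).symm⟩} := by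
        ext x
        simp only [SetLike.mem_coe, Subgroup.mem_subgroupOf, Set.mem_insert_iff, Set.mem_singleton_iff]
        constructor
        · intro hx
          have hne : ψ ub ≠ 1 := fun h => hubR (hker ▸ MonoidHom.mem_ker.mpr h)
          have := hfree (ψ ub) ⟨ub, rfl⟩ hne ⟨x, hx⟩ (Subtype.ext (by
            rw [hψval]
            exact mul_inv_eq_iff_eq_mul.mpr (Subgroup.mem_centralizer_singleton_iff.mp x.2).symm))
          rcases this with h | h
          · exact Or.inl (Subtype.ext (by simpa using congrArg Subtype.val h))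
          · exact Or.inr (Subtype.ext (by simpa [tR] using congrArg Subtype.val h))
        · rintro (rfl | rfl)
          · exact one_mem R
          · exact tR.2
      rw [← SetLike.coe_sort_coe, Nat.card_coe_set_eq, e, Set.ncard_pair]
      intro h
      exact htR (Subtype.ext (congrArg Subtype.val h).symm)
    have h3 : R.relIndex Z = 3 := by
      refine ((Nat.dvd_prime Nat.prime_three).mp
        (hindex3 ▸ Subgroup.relIndex_dvd_index_of_normal R Z)).resolve_left fun h => hubR ?_
      exact Subgroup.relIndex_eq_one.mp h (Subgroup.mem_centralizer_singleton_iff.mpr rfl)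
    have := (R.subgroupOf Z).card_mul_index
    rw [h1] at this
    rw [← this]
    show 2 * R.relIndex Z = 6
    rw [h3]
  let θ : (Cn t ⧸ On t) →* (Cn t ⧸ On t) ⧸ R := QuotientGroup.mk' R
  have hQ3 : Nat.card ((Cn t ⧸ On t) ⧸ R) = 3 := by rw [← R.index_eq_card, hindex3]
  have hgen : ∀ x : (Cn t ⧸ On t) ⧸ R, x ∈ Subgroup.zpowers (θ ub) := fun x =>
    mem_zpowers_of_prime_card hQ3 (fun h => hubR ((QuotientGroup.eq_one_iff _).mp h))
  obtain ⟨ζ, hζ⟩ : ∃ ζ : ℂˣ, orderOf ζ = 3 := by
    obtain ⟨z, hz⟩ : ∃ z : ℂ, IsPrimitiveRoot z 3 := ⟨_, Complex.isPrimitiveRoot_exp 3 (by norm_num)⟩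
    exact ⟨(hz.isUnit (by norm_num)).unit, by
      rw [← orderOf_units, IsUnit.unit_spec]; exact hz.eq_orderOf.symm⟩
  have hordθ : orderOf (θ ub) = 3 := orderOf_eq_prime
    (by rw [← map_pow, ← hub, pow_orderOf_eq_one, map_one])
    (fun h => hubR ((QuotientGroup.eq_one_iff _).mp h))
  let χ₀ := monoidHomOfForallMemZpowers hgen (g' := ζ) (by rw [hζ, hordθ])
  refine ⟨χ₀.comp (θ.comp π), u,
    { order := ht
      solvable := hC
      index := by rw [← hcardQ]; rfl
      kill := fun o ho => by
        rw [MonoidHom.comp_apply, MonoidHom.comp_apply,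
          show π o = 1 from (QuotientGroup.eq_one_iff _).mpr ho, map_one, map_one]
      cube := fun x => by
        rw [← map_pow, MonoidHom.comp_apply, map_pow]
        rw [show (θ.comp π x) ^ 3 = 1 from hQ3 ▸ pow_card_eq_one', map_one]
      ne_one := by
        rw [MonoidHom.comp_apply, MonoidHom.comp_apply, hu, monoidHomOfForallMemZpowers_apply_gen]
        intro h
        rw [h, orderOf_one] at hζ
        norm_num at hζ
      u_cube := (QuotientGroup.eq_one_iff _).mp (show π (u ^ 3) = 1 by
        rw [map_pow, hu]; exact orderOf_dvd_iff_pow_eq_one.mp (dvd_of_eq hub))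
      cent := ?_
      eight := ⟨(S : Subgroup G), h8, hconj⟩ }⟩
  have e : ∀ x : Cn t, x * u * x⁻¹ * u⁻¹ ∈ On t ↔ x ∈ Z.comap π := by
    intro x
    rw [Subgroup.mem_comap, Subgroup.mem_centralizer_singleton_iff, ← QuotientGroup.eq_one_iff]
    show π (x * u * x⁻¹ * u⁻¹) = 1 ↔ _
    simp only [map_mul, map_inv, hu]
    rw [mul_inv_eq_one, mul_inv_eq_iff_eq_mul]
  rw [Nat.card_congr (Equiv.subtypeEquivRight e)]
  show Nat.card (Z.comap π) = _
  have h4 : Z.index = 4 := by
    have := Z.card_mul_index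
    rw [hZ, hcardQ] at this
    omega
  have h5 := (Z.comap π).card_mul_index
  rw [Subgroup.index_comap_of_surjective _ hπs, h4, ← (On t).card_mul_index,
    show (On t).index = 24 by rw [← hcardQ]; rfl] at h5
  omega

end Cfsg.Agent.Solv.EightSection
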