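import Cfsg.Agent.Lib.Fusion.BurnsideFusion
import Cfsg.Agent.Lib.Fusion.Focal
import Cfsg.Agent.Lib.Solv.EightSection.Main
import Cfsg.Agent.Lib.Solv.EightSection.Setup

/-!
# Automorphisms induced on a Sylow 2-subgroup of order eight of a simple group
-/

set_option autoImplicit false
set_option linter.unusedSectionVars false

namespace Cfsg.Agent.Solv.EightSection

open Cfsg Cfsg.Agent
open scoped Classical

variable {G : Type*} [Group G] [Finite G]

/-- **Main theorem.** -/
theorem main [IsSimpleGroup G] (hG : ¬ IsMulCommutative G) (S : Sylow 2 G)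
    (hS : Cfsg.IsElementaryAbelian 2 (S : Subgroup G)) (hS8 : Nat.card ↥(S : Subgroup G) = 8)
    (hC : ∀ t : G, orderOf t = 2 → Group.IsSolvable ↥(Subgroup.centralizer ({t} : Set G))) :
    (Subgroup.centralizer ((S : Subgroup G) : Set G)).relIndex
      (Subgroup.normalizer ((S : Subgroup G) : Set G)) = 7 := by
  haveI : Fact (Nat.Prime 2) := ⟨Nat.prime_two⟩
  haveI := Fintype.ofFinite G
  by_contra hne
  set Sg : Subgroup G := (S : Subgroup G) with hSg
  have h2 : ∀ x ∈ Sg, x * x = 1 := fun x hx => by rw [← pow_two]; exact hS.2 x hx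
  have h2' : ∀ x : Sg, x * x = 1 := fun x => Subtype.ext (h2 x x.2)
  have hab : Sg ≤ Subgroup.centralizer (Sg : Set G) := fun x hx =>
    Subgroup.mem_centralizer_iff.mpr fun y hy =>
      congrArg Subtype.val (comm_of_sq h2' ⟨y, hy⟩ ⟨x, hx⟩)
  letI : CommGroup Sg := { (inferInstance : Group Sg) with mul_comm := comm_of_sq h2' }
  set N := Subgroup.normalizer (Sg : Set G) with hN
  let Ψ : N →* MulAut Sg := Sg.normalizerMonoidHom
  have hΨ : ∀ (n : N) (x : Sg), ((Ψ n x : Sg) : G) = n * x * (n : G)⁻¹ := fun n x => rfl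
  set A : Subgroup (MulAut Sg) := Ψ.range with hA
  have hAcard : Nat.card A = (Subgroup.centralizer (Sg : Set G)).relIndex N := by
    rw [hA, ← Subgroup.index_ker, show Ψ.ker = (Subgroup.centralizer (Sg : Set G)).subgroupOf N from
      Sg.normalizerMonoidHom_ker]
    rfl
  have hAodd : Odd (Nat.card A) := by
    rw [hAcard]
    have h1 : (Subgroup.centralizer (Sg : Set G)).relIndex N ∣ Sg.relIndex N :=
      Subgroup.relIndex_dvd_of_le_left N hab
    have h3 : Sg.relIndex N ∣ Sg.index := Subgroup.relIndex_dvd_index_of_le Sg.le_normalizer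
    exact Nat.not_even_iff_odd.mp fun he => S.not_dvd_index ((he.two_dvd.trans h1).trans h3)
  have hperf : commutator G = ⊤ := by
    refine (IsSimpleGroup.eq_bot_or_eq_top_of_normal (commutator G) inferInstance).resolve_left
      fun h => hG ?_
    exact ⟨⟨fun a b => by
      have := Subgroup.commutator_mem_commutator (Subgroup.mem_top a) (Subgroup.mem_top b)
      rw [← commutator_def, h, Subgroup.mem_bot, commutatorElement_eq_one_iff_mul_comm] at this
      exact this⟩⟩
  have hSyl : Fusion.SylIn 2 Sg ⊤ := ⟨le_top, S.isPGroup', by rw [Subgroup.relIndex_top_right]; exact S.not_dvd_index⟩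
  have hnofix : ∀ s : Sg, (∀ a ∈ A, a s = s) → s = 1 := by
    intro s hs
    haveI := Fintype.ofFinite A
    let φ : Sg →* Sg :=
      { toFun := fun x => ∏ a : A, (a : MulAut Sg) x
        map_one' := by simp
        map_mul' := fun x y => by simp [Finset.prod_mul_distrib] }
    have hinv : ∀ (a : A) (x : Sg), φ ((a : MulAut Sg) x) = φ x := fun a x =>
      Fintype.prod_equiv (Equiv.mulRight a) _ _ fun b => rfl
    have hker : Sg ≤ (φ.ker).map Sg.subtype := by
      refine le_trans (b := Sg ⊓ commutator G) (le_inf le_rfl (hperf.ge.trans' le_top)) ?_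
      rw [Fusion.inf_commutator_eq_focalIn_top hSyl]
      refine (Subgroup.closure_le _).2 ?_
      rintro _ ⟨x, hx, g, -, hgx, rfl⟩
      obtain ⟨n, hn, hne'⟩ := Fusion.fusion_of_abelian hSyl hab hx hgx
      refine Subgroup.mem_map.mpr ⟨⟨x, hx⟩⁻¹ * Ψ ⟨n, hn⟩ ⟨x, hx⟩, ?_, ?_⟩
      · rw [MonoidHom.mem_ker, map_mul, map_inv, hinv ⟨Ψ ⟨n, hn⟩, ⟨_, rfl⟩⟩, inv_mul_cancel]
      · simp only [map_mul, map_inv, Subgroup.coe_subtype]
        rw [hΨ, hne']
    obtain ⟨z, hz, hzs⟩ := Subgroup.mem_map.mp (hker s.2)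
    rw [Subtype.coe_injective.eq_iff.mp (hzs : (z : G) = s)] at hz
    have h1 : φ s = s ^ Fintype.card A := by
      show ∏ a : A, (a : MulAut Sg) s = _
      rw [Finset.prod_congr rfl fun (a : A) _ => hs a a.2, Finset.prod_const, Finset.card_univ]
    rw [MonoidHom.mem_ker, h1] at hz
    obtain ⟨j, hj⟩ := hAodd
    rw [← Nat.card_eq_fintype_card, hj, pow_succ, pow_mul, pow_two, h2', one_pow, one_mul] at hz
    exact hz
  let X := {s : Sg // s ≠ 1}
  letI : MulAction A X :=
    { smul := fun a x => ⟨(a : MulAut Sg) x.1,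
        fun h => x.2 ((a : MulAut Sg).injective (h.trans (map_one _).symm))⟩
      one_smul := fun x => Subtype.ext rfl
      mul_smul := fun a b x => Subtype.ext rfl }
  have hX : Nat.card X = 7 := by
    have h1 : Nat.card X = ({1}ᶜ : Set Sg).ncard := by
      rw [← Nat.card_coe_set_eq]
      exact Nat.card_congr (Equiv.subtypeEquivRight fun x => by simp)
    rw [h1, Set.ncard_compl _ (Set.toFinite _), Set.ncard_singleton, hS8]
  have horb : ∀ x : X, Odd (MulAction.orbit A x).ncard ∧ 3 ≤ (MulAction.orbit A x).ncard := by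
    intro x
    have ho : Odd (MulAction.orbit A x).ncard := hAodd.of_dvd_nat (by
      rw [← MulAction.index_stabilizer]
      exact Subgroup.index_dvd_card _)
    refine ⟨ho, ?_⟩
    have h1 : (MulAction.orbit A x).ncard ≠ 1 := by
      intro h1
      obtain ⟨y, hy⟩ := Set.ncard_eq_one.mp h1
      refine x.2 (hnofix x.1 fun a ha => ?_)
      have h3 : (⟨a, ha⟩ : A) • x ∈ MulAction.orbit A x := MulAction.mem_orbit x _
      have h4 : x ∈ MulAction.orbit A x := MulAction.mem_orbit_self x
      rw [hy, Set.mem_singleton_iff] at h3 h4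
      exact congrArg Subtype.val (h3.trans h4.symm)
    obtain ⟨j, hj⟩ := ho
    omega
  have htrans : ∀ x y : X, y ∈ MulAction.orbit A x := by
    intro x y
    by_contra hxy
    have hdisj : ∀ {a b : X}, b ∉ MulAction.orbit A a →
        Disjoint (MulAction.orbit A a) (MulAction.orbit A b) := by
      intro a b hab'
      refine Set.disjoint_left.mpr fun z hza hzb => hab' ?_
      rw [← MulAction.orbit_eq_iff.mpr hza, MulAction.orbit_eq_iff.mpr hzb]
      exact MulAction.mem_orbit_self b
    have h1 := Set.ncard_union_eq (hdisj hxy)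
    obtain ⟨oa, a3⟩ := horb x
    obtain ⟨ob, b3⟩ := horb y
    obtain ⟨w, hw⟩ : ∃ w : X, w ∉ MulAction.orbit A x ∪ MulAction.orbit A y := by
      by_contra hall
      push Not at hall
      rw [Set.eq_univ_of_forall hall, Set.ncard_univ, hX] at h1
      obtain ⟨i, hi⟩ := oa; obtain ⟨j, hj⟩ := ob
      omega
    rw [Set.mem_union, not_or] at hw
    have h3 := Set.ncard_union_eq (Set.disjoint_union_left.mpr ⟨hdisj hw.1, hdisj hw.2⟩)
    have h4 := Set.ncard_le_ncard (Set.subset_univ
      (MulAction.orbit A x ∪ MulAction.orbit A y ∪ MulAction.orbit A w))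
    rw [Set.ncard_univ, hX, h3, h1] at h4
    obtain ⟨-, c3⟩ := horb w
    omega
  obtain ⟨x₀⟩ : Nonempty X := (Nat.card_pos_iff.mp (by rw [hX]; norm_num)).1
  have hstab : Nat.card (MulAction.stabilizer A x₀) ≠ 1 := by
    intro h1
    apply hne
    rw [← hAcard, ← (MulAction.stabilizer A x₀).index_mul_card, h1, mul_one,
      MulAction.index_stabilizer, Set.eq_univ_of_forall (htrans x₀), Set.ncard_univ, hX]
  obtain ⟨a, ha, ha1⟩ : ∃ a : A, a • x₀ = x₀ ∧ a ≠ 1 := by
    by_contra hall
    push Not at hall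
    refine hstab ((Subgroup.card_eq_one).mpr ((Subgroup.eq_bot_iff_forall _).mpr fun a ha => ?_))
    exact hall a ha
  obtain ⟨n, hn⟩ := a.2
  set t : G := ((x₀.1 : Sg) : G) with htdef
  have ht : orderOf t = 2 := orderOf_eq_prime (hS.2 t x₀.1.2) (fun h => x₀.2 (Subtype.ext h))
  have hgt : (n : G) * t = t * (n : G) := by
    have h1 : (a : MulAut Sg) x₀.1 = x₀.1 := congrArg Subtype.val ha
    rw [← hn] at h1
    have := congrArg Subtype.val h1
    rw [hΨ] at this
    exact mul_inv_eq_iff_eq_mul.mp this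
  have hg : (n : G) ∉ Subgroup.centralizer (Sg : Set G) := by
    intro hc
    refine ha1 (Subtype.ext ?_)
    rw [← hn]
    exact MulEquiv.ext fun x => Subtype.ext (by
      rw [hΨ, ← Subgroup.mem_centralizer_iff.mp hc x x.2, mul_inv_cancel_right]; rfl)
  have hconj : ∀ x ∈ Sg, x ≠ 1 → IsConj t x := by
    intro x hx hx1
    obtain ⟨b, hb⟩ := htrans x₀ ⟨⟨x, hx⟩, fun h => hx1 (congrArg Subtype.val h)⟩
    obtain ⟨m, hm⟩ := b.2
    have h1 : (b : MulAut Sg) x₀.1 = ⟨x, hx⟩ := congrArg Subtype.val hb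
    rw [← hm] at h1
    have := congrArg Subtype.val h1
    rw [hΨ] at this
    exact isConj_iff.mpr ⟨m, this⟩
  obtain ⟨ω, u, hdata⟩ := exists_sectData ht (hC t ht) S hS8 h2 x₀.1.2 hconj hgt n.2 hg
  obtain ⟨l, hl⟩ := hdata.exists_linear_char
  apply hl
  have hker : l.ker = ⊤ := by
    refine (IsSimpleGroup.eq_bot_or_eq_top_of_normal l.ker inferInstance).resolve_left fun h => hG ?_
    exact ⟨⟨fun a b => (MonoidHom.ker_eq_bot_iff l).mp h (by rw [map_mul, map_mul, mul_comm])⟩⟩
  exact MonoidHom.ext fun g => MonoidHom.mem_ker.mp (hker ▸ Subgroup.mem_top g)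

end Cfsg.Agent.Solv.EightSection
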