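import Mathlib

/-!
# Three exceptional combinations force a linear character

Integer combinations `m 0, m 1, m 2` of norm four and mutual product two, of degree zero, with the first one
containing the trivial character once.
-/

set_option autoImplicit false

namespace Cfsg.Agent.Solv.EightSection

variable {ι : Type*} [DecidableEq ι]

/-- The nonzero entries of a short integer vector. -/
theorem support_of_sq_sum (s : Finset ι) (f : ι → ℤ) {n : ℕ} (hn : n ≤ 3)
    (h : ∑ i ∈ s, f i ^ 2 = (n : ℤ)) :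
    (s.filter fun i => f i ≠ 0).card = n ∧ ∀ i ∈ s, f i = 0 ∨ f i = 1 ∨ f i = -1 := by
  have hle : ∀ i ∈ s, f i = 0 ∨ f i = 1 ∨ f i = -1 := by
    intro i hi
    have h1 : f i ^ 2 ≤ (n : ℤ) := h ▸ Finset.single_le_sum (f := fun j => f j ^ 2)
      (fun j _ => sq_nonneg _) hi
    have h2 : f i < 2 ∧ -2 < f i := by constructor <;> nlinarith
    omega
  refine ⟨?_, hle⟩
  have h3 : ∑ i ∈ s, f i ^ 2 = ∑ i ∈ s.filter (fun i => f i ≠ 0), (1 : ℤ) := by
    rw [Finset.sum_filter]
    refine Finset.sum_congr rfl fun i hi => ?_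
    rcases hle i hi with e | e | e <;> simp [e]
  rw [h3, Finset.sum_const, nsmul_eq_mul, mul_one] at h
  exact_mod_cast h

/-- The arithmetic of the first configuration. -/
theorem arith_one {D R S : ℤ} (hD1 : D + 1 ≠ 0) (h1 : 1 + D = R + S)
    (h2 : (D + 1) * (R * S) = D * (R + S)) : R = 1 ∨ S = 1 := by
  have h3 : R * S = D := mul_left_cancel₀ hD1 (by rw [h2, ← h1]; ring)
  have h4 : (R - 1) * (S - 1) = 0 := by linear_combination h3 + h1
  rcases mul_eq_zero.mp h4 with h | h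
  · left; omega
  · right; omega

/-- The arithmetic of the second configuration. -/
theorem arith_two {D R S : ℤ} {k : ℤ} (hD : D = 8 * k + 2) (hneg : D < 0 → D ≤ -14)
    (hS : S ≠ 0) (h1 : 1 + D = R + S) (h2 : (D + 4) * (R * S) = D * (4 * S + R)) : S = 1 := by
  have hR : R = D + 1 - S := by omega
  subst hR
  have h4 : (S - 1) * ((D + 4) * S - D * (D + 1)) = 0 := by linear_combination -h2
  rcases mul_eq_zero.mp h4 with h | h
  · omega
  · have h5 : (D + 4) * (S - D + 3) = 12 := by linear_combination h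
    have h6 : D + 4 ∣ 12 := ⟨_, h5.symm⟩
    have h7 : D + 4 ≤ 12 := Int.le_of_dvd (by norm_num) h6
    have h8 : -(D + 4) ≤ 12 := Int.le_of_dvd (by norm_num) (Int.neg_dvd.mpr h6)
    have h9 : D = 2 := by
      rcases lt_or_ge D 0 with hn | hn
      · have := hneg hn
        obtain rfl : D = -14 := by omega
        norm_num at h6
      · obtain rfl | rfl : D = 2 ∨ D = 10 := by omega
        · rfl
        · norm_num at h6
    subst h9
    omega

variable [Fintype ι]

/-- **A linear character is forced.** -/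
theorem exists_linear (one : ι) (deg : ι → ℕ) (val : ι → ℂ) (m : Fin 3 → ι → ℤ)
    (hpos : ∀ x, 0 < deg x) (hone : deg one = 1)
    (hm1 : ∀ i, m i one = if i = 0 then 1 else 0)
    (hgram : ∀ i j, ∑ x, m i x * m j x = if i = j then 4 else 2)
    (hdeg : ∀ i, ∑ x, m i x * (deg x : ℤ) = 0)
    (hval : ∀ x, m 0 x + m 1 x + m 2 x ≠ 0 → val x = ((m 0 x + m 1 x + m 2 x : ℤ) : ℂ))
    (hcong : ∀ x, m 0 x + m 1 x + m 2 x ≠ 0 →
      ∃ k : ℕ, (deg x : ℤ) + 7 * (m 0 x + m 1 x + m 2 x) = 8 * k)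
    (hW : ∑ x, ((m 0 x - m 1 x : ℤ) : ℂ) * (val x ^ 2 / (deg x : ℂ)) = 0) :
    ∃ x, x ≠ one ∧ deg x = 1 := by
  classical
  have h00 : m 0 one = 1 := by simpa using hm1 0
  have h10 : m 1 one = 0 := by simpa using hm1 1
  have h20 : m 2 one = 0 := by simpa using hm1 2
  -- entries are small
  have hsmall : ∀ i, ∀ x, m i x = 0 ∨ m i x = 1 ∨ m i x = -1 := by
    intro i x
    have hg : ∑ y, m i y ^ 2 = 4 := by simp_rw [pow_two]; simpa using hgram i i
    have h1 : m i x ^ 2 ≤ 4 := hg ▸ Finset.single_le_sum (f := fun j => m i j ^ 2)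
      (fun j _ => sq_nonneg _) (Finset.mem_univ x)
    have h2 : m i x ≤ 2 ∧ -2 ≤ m i x := by constructor <;> nlinarith
    have h3 : m i x ^ 2 ≠ 4 := by
      intro e
      have hz : ∀ y ≠ x, m i y = 0 := by
        intro y hy
        have h4 : m i x ^ 2 + m i y ^ 2 ≤ 4 := by
          rw [← hg, ← Finset.sum_pair (f := fun j => m i j ^ 2) hy.symm]
          exact Finset.sum_le_sum_of_subset_of_nonneg (Finset.subset_univ _) fun j _ _ => sq_nonneg _
        have : m i y ^ 2 ≤ 0 := by omega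
        nlinarith
      have h5 := hdeg i
      rw [Finset.sum_eq_single x (fun y _ hy => by rw [hz y hy, zero_mul]) (by simp)] at h5
      rcases mul_eq_zero.mp h5 with h | h
      · rw [h] at e; norm_num at e
      · exact absurd (hpos x) (by omega)
    have : m i x ≠ 2 ∧ m i x ≠ -2 := by
      constructor <;> intro e <;> rw [e] at h3 <;> norm_num at h3
    omega
  -- three further entries of `m 0`
  have hs0 : ∑ x ∈ Finset.univ.erase one, m 0 x ^ 2 = ((3 : ℕ) : ℤ) := by
    have h := hgram 0 0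
    rw [← Finset.add_sum_erase _ _ (Finset.mem_univ one), h00, if_pos rfl] at h
    simp_rw [pow_two]
    push_cast
    linarith
  obtain ⟨hP, -⟩ := support_of_sq_sum _ _ le_rfl hs0
  obtain ⟨a, b, c, hab, hac, hbc, hPe⟩ := Finset.card_eq_three.mp hP
  have hsupp0 : ∀ x, x ≠ one → x ≠ a → x ≠ b → x ≠ c → m 0 x = 0 := by
    intro x h1 h2 h3 h4
    by_contra hne
    have : x ∈ (Finset.univ.erase one).filter fun x => m 0 x ≠ 0 := by simp [h1, hne]
    rw [hPe] at this
    simp [h2, h3, h4] at this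
  have hPmem : ∀ x, x = a ∨ x = b ∨ x = c → x ≠ one ∧ m 0 x ≠ 0 := by
    intro x hx
    have : x ∈ (Finset.univ.erase one).filter fun x => m 0 x ≠ 0 := by
      rw [hPe]; simp [hx]
    simpa using this
  obtain ⟨ha1, ha0⟩ := hPmem a (Or.inl rfl)
  obtain ⟨hb1, hb0⟩ := hPmem b (Or.inr (Or.inl rfl))
  obtain ⟨hc1, hc0⟩ := hPmem c (Or.inr (Or.inr rfl))
  have hsum0 : ∀ f : ι → ℤ, (∀ x, x ≠ one → x ≠ a → x ≠ b → x ≠ c → f x = 0) →
      ∑ x, f x = f one + f a + f b + f c := by
    intro f hf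
    rw [← Finset.sum_subset (Finset.subset_univ ({one, a, b, c} : Finset ι))]
    · simp [ha1.symm, hb1.symm, hc1.symm, hab, hac, hbc]
      ring
    · intro x _ hx
      simp at hx
      exact hf x hx.1 hx.2.1 hx.2.2.1 hx.2.2.2
  have hprod : ∀ i, i ≠ (0 : Fin 3) → m 0 a * m i a + m 0 b * m i b + m 0 c * m i c = 2 := by
    intro i hi
    have h := hgram 0 i
    rw [hsum0 (fun x => m 0 x * m i x) (fun x h1 h2 h3 h4 => by rw [hsupp0 x h1 h2 h3 h4, zero_mul]),
      if_neg hi.symm, hm1 i, if_neg hi] at h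
    linarith
  -- name the entry missed by `m 1`
  obtain ⟨p, q, d, hpq, hpd, hqd, hp, hq, hd, hp1, hq1, hd1, hp0, hq0, hd0, hset⟩ :
      ∃ p q d : ι, p ≠ q ∧ p ≠ d ∧ q ≠ d ∧ m 1 p = m 0 p ∧ m 1 q = m 0 q ∧ m 1 d = 0 ∧
        p ≠ one ∧ q ≠ one ∧ d ≠ one ∧ m 0 p ≠ 0 ∧ m 0 q ≠ 0 ∧ m 0 d ≠ 0 ∧
        ∀ x, x ≠ one → x ≠ p → x ≠ q → x ≠ d → m 0 x = 0 := by
    have h := hprod 1 (by decide)
    rcases hsmall 0 a with e | e | e <;> rcases hsmall 0 b with f | f | f <;>
      rcases hsmall 0 c with g | g | g <;> try contradiction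
    all_goals
      rw [e, f, g] at h
      rcases hsmall 1 a with e' | e' | e' <;> rcases hsmall 1 b with f' | f' | f' <;>
        rcases hsmall 1 c with g' | g' | g' <;> rw [e', f', g'] at h <;> norm_num at h
      all_goals first
        | exact ⟨b, c, a, hbc, hab.symm, hac.symm, by rw [f, f'], by rw [g, g'], e', hb1, hc1, ha1,
            hb0, hc0, ha0, fun x h1 h2 h3 h4 => hsupp0 x h1 h4 h2 h3⟩
        | exact ⟨a, c, b, hac, hab, hbc.symm, by rw [e, e'], by rw [g, g'], f', ha1, hc1, hb1,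
            ha0, hc0, hb0, fun x h1 h2 h3 h4 => hsupp0 x h1 h2 h4 h3⟩
        | exact ⟨a, b, c, hab, hac, hbc, by rw [e, e'], by rw [f, f'], g', ha1, hb1, hc1,
            ha0, hb0, hc0, fun x h1 h2 h3 h4 => hsupp0 x h1 h2 h3 h4⟩
  have hmp : m 0 p * m 0 p = 1 := by rcases hsmall 0 p with e | e | e <;> simp_all
  have hmq : m 0 q * m 0 q = 1 := by rcases hsmall 0 q with e | e | e <;> simp_all
  have hmd : m 0 d * m 0 d = 1 := by rcases hsmall 0 d with e | e | e <;> simp_all
  set T : Finset ι := {one, p, q, d} with hT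
  have hnotT : ∀ x, x ∉ T ↔ x ≠ one ∧ x ≠ p ∧ x ≠ q ∧ x ≠ d := by intro x; simp [hT]
  have hsumT : ∀ f : ι → ℤ, ∑ x ∈ T, f x = f one + f p + f q + f d := by
    intro f
    simp [hT, hp1.symm, hq1.symm, hd1.symm, hpq, hpd, hqd]
    ring
  -- the two further entries of `m 1`
  have hs1 : ∑ x ∈ Finset.univ \ T, m 1 x ^ 2 = ((2 : ℕ) : ℤ) := by
    have h := hgram 1 1
    rw [if_pos rfl, ← Finset.sum_sdiff (Finset.subset_univ T), hsumT (fun x => m 1 x * m 1 x),
      hp, hq, hd, h10, hmp, hmq] at h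
    simp_rw [pow_two]
    push_cast
    linarith
  obtain ⟨hR, -⟩ := support_of_sq_sum _ _ (by norm_num) hs1
  obtain ⟨r, s, hrs, hRe⟩ := Finset.card_eq_two.mp hR
  have hmem : ∀ x, x = r ∨ x = s → x ∉ T ∧ m 1 x ≠ 0 := by
    intro x hx
    have : x ∈ (Finset.univ \ T).filter fun x => m 1 x ≠ 0 := by rw [hRe]; simp [hx]
    simpa using this
  obtain ⟨hrT, hr0⟩ := hmem r (Or.inl rfl)
  obtain ⟨hsT, hs0'⟩ := hmem s (Or.inr rfl)
  obtain ⟨hr1, hrp, hrq, hrd⟩ := (hnotT r).mp hrT
  obtain ⟨hs1', hsp, hsq, hsd⟩ := (hnotT s).mp hsT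
  have hr00 : m 0 r = 0 := hset r hr1 hrp hrq hrd
  have hs00 : m 0 s = 0 := hset s hs1' hsp hsq hsd
  set U : Finset ι := {one, p, q, d, r, s} with hU
  have hout : ∀ x, x ∉ U → m 0 x = 0 ∧ m 1 x = 0 := by
    intro x hx
    simp [hU] at hx
    refine ⟨hset x hx.1 hx.2.1 hx.2.2.1 hx.2.2.2.1, ?_⟩
    by_contra hne
    have hxT : x ∉ T := (hnotT x).mpr ⟨hx.1, hx.2.1, hx.2.2.1, hx.2.2.2.1⟩
    have : x ∈ (Finset.univ \ T).filter fun x => m 1 x ≠ 0 := by simp [hxT, hne]
    rw [hRe] at this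
    simp [hx.2.2.2.2.1, hx.2.2.2.2.2] at this
  have hsumU : ∀ {β : Type} [inst : AddCommMonoid β] (f : ι → β), (∀ x, x ∉ U → f x = 0) →
      ∑ x, f x = f one + (f p + (f q + (f d + (f r + f s)))) := by
    intro β _ f hf
    rw [← Finset.sum_subset (Finset.subset_univ U) fun x _ hx => hf x hx, hU]
    rw [Finset.sum_insert (by simp [hp1.symm, hq1.symm, hd1.symm, hr1.symm, hs1'.symm]),
      Finset.sum_insert (by simp [hpq, hpd, hrp.symm, hsp.symm]),
      Finset.sum_insert (by simp [hqd, hrq.symm, hsq.symm]),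
      Finset.sum_insert (by simp [hrd.symm, hsd.symm]), Finset.sum_pair hrs]
  have e0 := hdeg 0
  rw [hsumU (fun x => m 0 x * (deg x : ℤ)) (fun x hx => by simp [(hout x hx).1]), h00, hone, hr00,
    hs00] at e0
  have e1 := hdeg 1
  rw [hsumU (fun x => m 1 x * (deg x : ℤ)) (fun x hx => by simp [(hout x hx).2]), h10, hp, hq, hd] at e1
  simp only [zero_mul, one_mul, Nat.cast_one, add_zero, zero_add] at e0 e1
  have e2 := hprod 2 (by decide)
  have e2' : m 0 p * m 2 p + m 0 q * m 2 q + m 0 d * m 2 d = 2 := by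
    have h := hgram 0 2
    rw [if_neg (by decide), hsumU (fun x => m 0 x * m 2 x) (fun x hx => by simp [(hout x hx).1]),
      h20, hr00, hs00] at h
    linarith
  clear e2
  have e12 : m 0 p * m 2 p + m 0 q * m 2 q + (m 1 r * m 2 r + m 1 s * m 2 s) = 2 := by
    have h := hgram 1 2
    rw [if_neg (by decide), hsumU (fun x => m 1 x * m 2 x) (fun x hx => by simp [(hout x hx).2]),
      h20, hp, hq, hd] at h
    linarith
  -- degree of `m 2` when it meets both further entries
  have hnoboth : m 2 d = 0 → m 2 r = 0 ∨ m 2 s = 0 := by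
    intro hd2
    by_contra hne
    push Not at hne
    rw [hd2, mul_zero, add_zero] at e2'
    have hpp : m 2 p = m 0 p ∧ m 2 q = m 0 q := by
      rcases hsmall 0 p with a1 | a1 | a1 <;> rcases hsmall 0 q with a2 | a2 | a2 <;>
        rcases hsmall 2 p with a3 | a3 | a3 <;> rcases hsmall 2 q with a4 | a4 | a4 <;>
        simp [a1, a2, a3, a4] at e2' hp0 hq0 ⊢
    rw [hpp.1, hpp.2, hmp, hmq] at e12
    have sq1 : ∀ x, m 2 x ≠ 0 → m 2 x ^ 2 = 1 := by
      intro x hx; rcases hsmall 2 x with e | e | e <;> simp_all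
    have hz : ∀ x, x ∉ U → m 2 x = 0 := by
      intro x hx
      have h := hgram 2 2
      rw [if_pos rfl] at h
      by_contra hne'
      have h1 : ∑ y ∈ insert x U, m 2 y ^ 2 ≤ 4 := by
        rw [← h]; simp_rw [pow_two]
        exact Finset.sum_le_sum_of_subset_of_nonneg (Finset.subset_univ _) fun j _ _ => mul_self_nonneg _
      rw [Finset.sum_insert hx, hU, Finset.sum_insert (by simp [hp1.symm, hq1.symm, hd1.symm, hr1.symm, hs1'.symm]),
        Finset.sum_insert (by simp [hpq, hpd, hrp.symm, hsp.symm]),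
        Finset.sum_insert (by simp [hqd, hrq.symm, hsq.symm]),
        Finset.sum_insert (by simp [hrd.symm, hsd.symm]), Finset.sum_pair hrs, sq1 x hne',
        sq1 p (by rw [hpp.1]; exact hp0), sq1 q (by rw [hpp.2]; exact hq0), sq1 r hne.1, sq1 s hne.2,
        h20, hd2] at h1
      norm_num at h1
    have e3 := hdeg 2
    rw [hsumU (fun x => m 2 x * (deg x : ℤ)) (fun x hx => by simp [hz x hx]), h20, hpp.1, hpp.2,
      hd2] at e3
    have := hpos r
    have := hpos s
    rcases hsmall 1 r with b1 | b1 | b1 <;> rcases hsmall 1 s with b2 | b2 | b2 <;>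
      rcases hsmall 2 r with b3 | b3 | b3 <;> rcases hsmall 2 s with b4 | b4 | b4 <;>
      simp [b1, b2, b3, b4] at e12 e3 e1 hne hr0 hs0' <;> omega
  -- the shared arithmetic
  have hcases : ∀ r s : ι, r ≠ one → s ≠ one → m 0 r = 0 → m 0 s = 0 → m 1 r ≠ 0 → m 1 s ≠ 0 →
      1 + m 0 d * (deg d : ℤ) = m 1 r * (deg r : ℤ) + m 1 s * (deg s : ℤ) →
      ((m 0 d : ℂ) * (val d ^ 2 / deg d) + 1 = (m 1 r : ℂ) * (val r ^ 2 / deg r) +
        (m 1 s : ℂ) * (val s ^ 2 / deg s)) →
      (m 2 d = 0 ∧ m 2 r = 0 ∧ m 2 s = 0 ∨ m 2 d = m 0 d ∧ m 2 r = m 1 r ∧ m 2 s = 0) →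
      ∃ x, x ≠ one ∧ deg x = 1 := by
    intro r s hr1 hs1 hr00 hs00 hr0 hs0 h1 h2 hc
    set D := m 0 d * (deg d : ℤ) with hD
    set R := m 1 r * (deg r : ℤ) with hR'
    set S := m 1 s * (deg s : ℤ) with hS'
    have hpd' := hpos d
    have hpr := hpos r
    have hps := hpos s
    have hconv : ∀ (e : ℤ) (n : ℕ) (v : ℂ), e = 1 ∨ e = -1 → 0 < n →
        (e : ℂ) * (v ^ 2 / n) = v ^ 2 / ((e * (n : ℤ) : ℤ) : ℂ) := by
      intro e n v he hn
      rcases he with rfl | rfl <;> push_cast <;> field_simp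
    have hd' := (hsmall 0 d).resolve_left hd0
    have hr' := (hsmall 1 r).resolve_left hr0
    have hs' := (hsmall 1 s).resolve_left hs0
    rw [hconv _ _ _ hd' hpd', hconv _ _ _ hr' hpr, hconv _ _ _ hs' hps, ← hD, ← hR', ← hS'] at h2
    have hDne : D ≠ 0 := mul_ne_zero hd0 (by omega)
    have hRne : R ≠ 0 := mul_ne_zero hr0 (by omega)
    have hSne : S ≠ 0 := mul_ne_zero hs0 (by omega)
    have hDc : (D : ℂ) ≠ 0 := Int.cast_ne_zero.mpr hDne
    have hRc : (R : ℂ) ≠ 0 := Int.cast_ne_zero.mpr hRne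
    have hSc : (S : ℂ) ≠ 0 := Int.cast_ne_zero.mpr hSne
    rcases hc with ⟨cd, cr, cs⟩ | ⟨cd, cr, cs⟩
    · have vd : val d = ((m 0 d : ℤ) : ℂ) := by
        rw [hval d (by rw [hd, cd]; simpa using hd0), hd, cd]; simp
      have vr : val r = ((m 1 r : ℤ) : ℂ) := by
        rw [hval r (by rw [hr00, cr]; simpa using hr0), hr00, cr]; simp
      have vs : val s = ((m 1 s : ℤ) : ℂ) := by
        rw [hval s (by rw [hs00, cs]; simpa using hs0), hs00, cs]; simp
      have sq : ∀ e : ℤ, e = 1 ∨ e = -1 → (e : ℂ) ^ 2 = 1 := by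
        rintro e (rfl | rfl) <;> norm_num
      rw [vd, vr, vs, sq _ hd', sq _ hr', sq _ hs'] at h2
      field_simp at h2
      have h3 : (D + 1) * (R * S) = D * (R + S) := by
        apply Int.cast_injective (α := ℂ)
        push_cast
        linear_combination h2
      obtain ⟨k, hk⟩ := hcong d (by rw [hd, cd]; simpa using hd0)
      rw [hd, cd, add_zero, add_zero] at hk
      have hD1 : D + 1 ≠ 0 := by
        intro h
        rcases hd' with e | e <;> rw [e] at hk <;> simp [hD, e] at h <;> omega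
      rcases arith_one hD1 h1 h3 with h | h
      · refine ⟨r, hr1, ?_⟩
        rcases hr' with e | e <;> simp [hR', e] at h <;> omega
      · refine ⟨s, hs1, ?_⟩
        rcases hs' with e | e <;> simp [hS', e] at h <;> omega
    · have vd : val d = ((2 * m 0 d : ℤ) : ℂ) := by
        rw [hval d (by rw [hd, cd]; omega), hd, cd]; congr 1; ring
      have vr : val r = ((2 * m 1 r : ℤ) : ℂ) := by
        rw [hval r (by rw [hr00, cr]; omega), hr00, cr]; congr 1; ring
      have vs : val s = ((m 1 s : ℤ) : ℂ) := by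
        rw [hval s (by rw [hs00, cs]; simpa using hs0), hs00, cs]; simp
      have sq : ∀ e : ℤ, e = 1 ∨ e = -1 → (e : ℂ) ^ 2 = 1 := by
        rintro e (rfl | rfl) <;> norm_num
      push_cast at vd vr
      rw [vd, vr, vs, mul_pow, mul_pow, sq _ hd', sq _ hr', sq _ hs'] at h2
      field_simp at h2
      have h3 : (D + 4) * (R * S) = D * (4 * S + R) := by
        apply Int.cast_injective (α := ℂ)
        push_cast
        linear_combination h2
      obtain ⟨k, hk⟩ := hcong d (by rw [hd, cd]; omega)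
      rw [hd, cd] at hk
      obtain ⟨j, hj, hneg⟩ : ∃ j : ℤ, D = 8 * j + 2 ∧ (D < 0 → D ≤ -14) := by
        rcases hd' with e | e <;> rw [e] at hk
        · exact ⟨k - 2, by rw [hD, e]; omega, by rw [hD, e]; omega⟩
        · exact ⟨-(k : ℤ) - 2, by rw [hD, e]; omega, by rw [hD, e]; omega⟩
      have h := arith_two hj hneg hSne h1 h3
      refine ⟨s, hs1, ?_⟩
      rcases hs' with e | e <;> simp [hS', e] at h <;> omega
  have hW' : (m 0 d : ℂ) * (val d ^ 2 / deg d) + 1 =
      (m 1 r : ℂ) * (val r ^ 2 / deg r) + (m 1 s : ℂ) * (val s ^ 2 / deg s) := by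
    rw [hsumU (fun x => ((m 0 x - m 1 x : ℤ) : ℂ) * (val x ^ 2 / (deg x : ℂ)))
      (fun x hx => by simp [(hout x hx).1, (hout x hx).2]), h00, h10, hp, hq, hd, hr00, hs00,
      hone] at hW
    have hv1 : val one = 1 := by
      rw [hval one (by rw [h00, h10, h20]; norm_num), h00, h10, h20]; simp
    rw [hv1] at hW
    push_cast at hW
    linear_combination hW
  have h1' : 1 + m 0 d * (deg d : ℤ) = m 1 r * (deg r : ℤ) + m 1 s * (deg s : ℤ) := by linarith
  have key : (m 2 d = 0 ∧ m 2 r = 0 ∧ m 2 s = 0) ∨ (m 2 d = m 0 d ∧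
      (m 2 r = m 1 r ∧ m 2 s = 0 ∨ m 2 s = m 1 s ∧ m 2 r = 0)) := by
    rcases hsmall 0 d with a0 | a0 | a0
    · exact absurd a0 hd0
    all_goals
      rcases hsmall 0 p with a1 | a1 | a1
      · exact absurd a1 hp0
      all_goals
        rcases hsmall 0 q with a2 | a2 | a2
        · exact absurd a2 hq0
        all_goals
          rcases hsmall 1 r with a3 | a3 | a3
          · exact absurd a3 hr0
          all_goals
            rcases hsmall 1 s with a4 | a4 | a4
            · exact absurd a4 hs0'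
            all_goals
              have := hsmall 2 p
              have := hsmall 2 q
              have := hsmall 2 d
              have := hsmall 2 r
              have := hsmall 2 s
              rw [a0, a1, a2] at e2'
              rw [a1, a2, a3, a4] at e12
              omega
  rcases key with ⟨k1, k2, k3⟩ | ⟨k1, ⟨k2, k3⟩ | ⟨k2, k3⟩⟩
  · exact hcases r s hr1 hs1' hr00 hs00 hr0 hs0' h1' hW' (Or.inl ⟨k1, k2, k3⟩)
  · exact hcases r s hr1 hs1' hr00 hs00 hr0 hs0' h1' hW' (Or.inr ⟨k1, k2, k3⟩)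
  · exact hcases s r hs1' hr1 hs00 hr00 hs0' hr0 (by linarith)
      (by linear_combination hW') (Or.inr ⟨k1, k2, k3⟩)

end Cfsg.Agent.Solv.EightSection
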