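import Cfsg.Agent.Lib.Char.IsolatedBase
import Cfsg.Agent.Lib.Char.SolvablePrincipalMeet
import Cfsg.Agent.Lib.Char.Central
import Cfsg.Agent.Lib.Solv.EightSection.Combinatorics

/-!
# The section of an involution with solvable centralizer and a Sylow 2-subgroup of order eight
-/

set_option autoImplicit false
set_option linter.unusedSectionVars false

namespace Cfsg.Agent.Solv.EightSection

open Cfsg Cfsg.Agent Cfsg.Agent.Char
open scoped ComplexConjugate Classical

universe u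

variable {G : Type u} [Group G] [Fintype G]

open scoped Classical in
/-- The second orthogonality relation as a count of conjugators. -/
theorem second_orth_count (g h : G) :
    ∑ χ : IrrCharacter G, (χ : G → ℂ) g * conj ((χ : G → ℂ) h) =
      ((Finset.univ.filter fun x : G => x * h * x⁻¹ = g).card : ℂ) := by
  rw [second_orth]
  split_ifs with hc
  · obtain ⟨c, hc'⟩ := isConj_iff.mp hc.symm
    have e : Nat.card {x : G // x * h * x⁻¹ = g} = Nat.card (Subgroup.centralizer ({h} : Set G)) := by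
      refine Nat.card_congr
        { toFun := fun x => ⟨c⁻¹ * x.1, Subgroup.mem_centralizer_singleton_iff.mpr ?_⟩
          invFun := fun z => ⟨c * z.1, ?_⟩
          left_inv := fun x => Subtype.ext (by simp)
          right_inv := fun z => Subtype.ext (by simp) }
      · have := x.2.trans hc'.symm
        calc c⁻¹ * x.1 * h = c⁻¹ * (x.1 * h * x.1⁻¹) * x.1 := by group
          _ = h * (c⁻¹ * x.1) := by rw [this]; group
      · have := Subgroup.mem_centralizer_singleton_iff.mp z.2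
        rw [← hc']
        calc c * z.1 * h * (c * z.1)⁻¹ = c * (z.1 * h) * z.1⁻¹ * c⁻¹ := by group
          _ = c * h * c⁻¹ := by rw [this]; group
    rw [← Fintype.card_subtype, ← Nat.card_eq_fintype_card, e,
      div_eq_iff (Nat.cast_ne_zero.mpr (card_conjClass_ne_zero h)), mul_comm, ← Nat.cast_mul,
      card_conjClass_mul_centralizer]
  · symm
    rw [Nat.cast_eq_zero, Finset.card_eq_zero, Finset.filter_eq_empty_iff]
    exact fun x _ hx => hc (isConj_iff.mpr ⟨x, hx⟩).symm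

/-- The centralizer of `t`. -/
abbrev Cn (t : G) : Subgroup G := Subgroup.centralizer ({t} : Set G)

/-- The odd core of the centralizer of `t`. -/
abbrev On (t : G) : Subgroup (Cn t) := pPrimeCore 2 (Cn t)

/-- The data of the centralizer of `t`. -/
structure SectData (t : G) (ω : Cn t →* ℂˣ)
    (u : Cn t) : Prop where
  order : orderOf t = 2
  solvable : Group.IsSolvable (Cn t)
  index : (On t).index = 24
  kill : ∀ o ∈ On t, ω o = 1
  cube : ∀ x, ω x ^ 3 = 1
  ne_one : ω u ≠ 1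
  u_cube : u ^ 3 ∈ On t
  cent : Nat.card {x : Cn t //
      x * u * x⁻¹ * u⁻¹ ∈ On t} =
    6 * Nat.card (On t)
  eight : ∃ E : Subgroup G, Nat.card E = 8 ∧ ∀ x ∈ E, x ≠ 1 → IsConj t x

variable {t : G} {ω : Cn t →* ℂˣ}
  {u : Cn t}


namespace SectData

variable (h : SectData t ω u)
include h

theorem card_core_odd : ¬ 2 ∣ Nat.card (On t) :=
  Nat.prime_two.coprime_iff_not_dvd.mp (Fusion.card_pPrimeCore_coprime 2 _).symm

theorem t_sq : t * t = 1 := by
  rw [← pow_two, ← h.order, pow_orderOf_eq_one]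

theorem odd_of_mem {k : ℕ} {o : (Cn t)} (ho : o ∈ (On t)) : Odd (orderOf (u ^ k * o)) := by
  haveI := Solv.pPrimeCore_normal (G := (Cn t)) 2
  have h3 : (u ^ k * o) ^ 3 ∈ (On t) := by
    rw [← QuotientGroup.eq_one_iff (N := (On t)), QuotientGroup.mk_pow, QuotientGroup.mk_mul,
      (QuotientGroup.eq_one_iff o).mpr ho, mul_one, QuotientGroup.mk_pow, ← pow_mul, mul_comm k 3,
      pow_mul, ← QuotientGroup.mk_pow, (QuotientGroup.eq_one_iff _).mpr h.u_cube, one_pow]
  have hd : orderOf ((u ^ k * o) ^ 3) ∣ Nat.card (On t) := by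
    have := orderOf_dvd_natCard (⟨_, h3⟩ : (On t))
    rwa [Subgroup.orderOf_mk] at this
  have : orderOf (u ^ k * o) ∣ 3 * Nat.card (On t) := by
    rw [orderOf_dvd_iff_pow_eq_one, pow_mul, ← orderOf_dvd_iff_pow_eq_one]
    exact hd
  refine Odd.of_dvd_nat ?_ this
  refine Nat.odd_mul.mpr ⟨by decide, ?_⟩
  exact Nat.not_even_iff_odd.mp fun he => h.card_core_odd he.two_dvd

/-- `t` is the 2-part of the elements of its section. -/
theorem pow_eq_t {k : ℕ} {o : (Cn t)} (ho : o ∈ (On t)) :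
    (t * ((u ^ k * o : (Cn t)) : G)) ^ orderOf (u ^ k * o) = t := by
  set y := u ^ k * o
  have hc : Commute t (y : G) := (Subgroup.mem_centralizer_singleton_iff.mp y.2).symm
  rw [hc.mul_pow, ← Subgroup.coe_pow, pow_orderOf_eq_one, Subgroup.coe_one, mul_one]
  obtain ⟨j, hj⟩ := h.odd_of_mem (k := k) ho
  rw [hj, pow_succ, pow_mul, pow_two, h.t_sq, one_pow, one_mul]

theorem omega_val {k : ℕ} {o : (Cn t)} (ho : o ∈ (On t)) : ω (u ^ k * o) = ω u ^ k := by
  rw [map_mul, map_pow, h.kill o ho, mul_one]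

theorem isPrimitive : IsPrimitiveRoot (ω u : ℂ) 3 := by
  have h1 : orderOf (ω u) = 3 :=
    haveI := Fact.mk Nat.prime_three
    orderOf_eq_prime (h.cube u) h.ne_one
  exact IsPrimitiveRoot.coe_units_iff.mpr (h1 ▸ IsPrimitiveRoot.orderOf (ω u))

theorem omega_inj {k l : ℕ} (hk : k < 3) (hl : l < 3) (he : ω u ^ k = ω u ^ l) : k = l := by
  have h1 : orderOf (ω u) = 3 :=
    haveI := Fact.mk Nat.prime_three
    orderOf_eq_prime (h.cube u) h.ne_one
  exact pow_injOn_Iio_orderOf (h1.symm ▸ hk) (h1.symm ▸ hl) he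

/-- Elements conjugating within the section centralize `t`. -/
theorem comm_of_conj {k l : ℕ} {o o' : (Cn t)} (ho : o ∈ (On t)) (ho' : o' ∈ (On t)) {x : G}
    (he : x * (t * ((u ^ l * o : (Cn t)) : G)) * x⁻¹ = t * ((u ^ k * o' : (Cn t)) : G)) :
    x * t = t * x := by
  have hodd : ∀ {j : ℕ}, Odd j → t ^ j = t := by
    rintro _ ⟨i, rfl⟩
    rw [pow_succ, pow_mul, pow_two, h.t_sq, one_pow, one_mul]
  have h3 : (t * ((u ^ l * o : (Cn t)) : G)) ^ (orderOf (u ^ l * o) * orderOf (u ^ k * o')) = t := by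
    rw [pow_mul, h.pow_eq_t ho, hodd (h.odd_of_mem ho')]
  have h4 : (t * ((u ^ k * o' : (Cn t)) : G)) ^ (orderOf (u ^ l * o) * orderOf (u ^ k * o')) = t := by
    rw [mul_comm (orderOf (u ^ l * o)), pow_mul, h.pow_eq_t ho', hodd (h.odd_of_mem ho)]
  rw [← he, conj_pow, h3] at h4
  exact mul_inv_eq_iff_eq_mul.mp h4

end SectData

/-- The average of a character over a coset in the section. -/
noncomputable def avg (χ : G → ℂ) (u : Cn t) (k : ℕ) : ℂ :=
  (Nat.card (On t) : ℂ)⁻¹ *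
    ∑ o : (On t), χ (t * ((u ^ k * (o : (Cn t)) : (Cn t)) : G))

namespace SectData

variable (h : SectData t ω u)
include h

open scoped Classical in
/-- Conjugators between two cosets of the section. -/
theorem sum_avg_mul (k l : ℕ) :
    ∑ χ : IrrCharacter G, avg (χ : G → ℂ) u k * conj (avg (χ : G → ℂ) u l) =
      (Nat.card (On t) : ℂ)⁻¹ *
        ((Finset.univ.filter fun x : (Cn t) => x * u ^ l * x⁻¹ * (u ^ k)⁻¹ ∈ (On t)).card : ℂ) := by
  haveI := Solv.pPrimeCore_normal (G := (Cn t)) 2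
  set n : ℂ := (Nat.card (On t) : ℂ)
  have hn : n ≠ 0 := Nat.cast_ne_zero.mpr Nat.card_pos.ne'
  simp only [avg, map_mul, map_inv₀, map_sum, map_natCast]
  simp only [mul_mul_mul_comm _ (∑ o : On t, _) _ _, ← Finset.mul_sum, Finset.sum_mul_sum]
  rw [Finset.sum_comm, Finset.sum_congr rfl fun o (_ : o ∈ (Finset.univ : Finset (On t))) =>
    Finset.sum_congr rfl fun χ (_ : χ ∈ (Finset.univ : Finset (IrrCharacter G))) => Finset.mul_sum _ _ _]
  rw [Finset.sum_congr rfl fun o (_ : o ∈ (Finset.univ : Finset (On t))) => Finset.sum_comm]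
  simp only [second_orth_count]
  rw [Finset.sum_comm]
  have e : ∀ o' : (On t),
      ∑ o : (On t), ((Finset.univ.filter fun x : G =>
        x * (t * ((u ^ l * (o' : (Cn t)) : (Cn t)) : G)) * x⁻¹ = t * ((u ^ k * (o : (Cn t)) : (Cn t)) : G)).card : ℂ) =
      ((Finset.univ.filter fun x : (Cn t) => x * u ^ l * x⁻¹ * (u ^ k)⁻¹ ∈ (On t)).card : ℂ) := by
    intro o'
    rw [← Nat.cast_sum, Nat.cast_inj, ← Finset.card_sigma]
    refine Finset.card_bij (fun p hp => ⟨p.2, ?_⟩) ?_ ?_ ?_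
    · rw [Finset.mem_sigma, Finset.mem_filter] at hp
      exact Subgroup.mem_centralizer_singleton_iff.mpr (h.comm_of_conj o'.2 p.1.2 hp.2.2)
    · intro p hp
      rw [Finset.mem_sigma, Finset.mem_filter] at hp
      refine Finset.mem_filter.mpr ⟨Finset.mem_univ _, ?_⟩
      have hxC : p.2 * t = t * p.2 := h.comm_of_conj o'.2 p.1.2 hp.2.2
      have h5 : p.2 * ((u ^ l * (o' : (Cn t)) : (Cn t)) : G) * p.2⁻¹ = ((u ^ k * (p.1 : (Cn t)) : (Cn t)) : G) := by
        have h2 : p.2 * (t * ((u ^ l * (o' : (Cn t)) : (Cn t)) : G)) * p.2⁻¹ =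
            t * ((u ^ k * (p.1 : (Cn t)) : (Cn t)) : G) := hp.2.2
        rw [← mul_assoc, hxC, mul_assoc t, mul_assoc t] at h2
        exact mul_left_cancel h2
      set x : (Cn t) := ⟨p.2, Subgroup.mem_centralizer_singleton_iff.mpr hxC⟩
      have h6 : x * (u ^ l * (o' : (Cn t))) * x⁻¹ = u ^ k * (p.1 : (Cn t)) := Subtype.ext h5
      rw [← QuotientGroup.eq_one_iff (N := (On t))]
      have h7 := congrArg (fun z : (Cn t) => (z : (Cn t) ⧸ (On t))) h6
      simp only [QuotientGroup.mk_mul, QuotientGroup.mk_inv, (QuotientGroup.eq_one_iff _).mpr o'.2,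
        (QuotientGroup.eq_one_iff _).mpr p.1.2, mul_one] at h7 ⊢
      rw [h7, mul_inv_cancel]
    · intro p hp q hq he
      have he' : p.2 = q.2 := congrArg Subtype.val he
      rw [Finset.mem_sigma, Finset.mem_filter] at hp hq
      have h1 := hp.2.2
      rw [he'] at h1
      have h2 : ((u ^ k * (p.1 : (Cn t)) : (Cn t)) : G) = ((u ^ k * (q.1 : (Cn t)) : (Cn t)) : G) :=
        mul_left_cancel (h1.symm.trans hq.2.2)
      exact Sigma.ext (Subtype.ext (mul_left_cancel (Subtype.ext h2))) (heq_of_eq he')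
    · intro x hx
      have hx' := (Finset.mem_filter.mp hx).2
      have hm : (u ^ k)⁻¹ * (x * (u ^ l * (o' : (Cn t))) * x⁻¹) ∈ (On t) := by
        rw [← QuotientGroup.eq_one_iff (N := (On t))] at hx' ⊢
        simp only [QuotientGroup.mk_mul, QuotientGroup.mk_inv,
          (QuotientGroup.eq_one_iff _).mpr o'.2, mul_one] at hx' ⊢
        rw [mul_inv_eq_one.mp hx', inv_mul_cancel]
      refine ⟨⟨⟨_, hm⟩, (x : G)⟩, Finset.mem_sigma.mpr ⟨Finset.mem_univ _,
        Finset.mem_filter.mpr ⟨Finset.mem_univ _, ?_⟩⟩, rfl⟩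
      have hxt := Subgroup.mem_centralizer_singleton_iff.mp x.2
      simp only [mul_inv_cancel_left, Subgroup.coe_mul, Subgroup.coe_inv]
      rw [← mul_assoc, hxt, mul_assoc t, mul_assoc t]
  rw [Finset.sum_congr rfl fun o' _ => e o', Finset.sum_const, Finset.card_univ,
    ← Nat.card_eq_fintype_card, nsmul_eq_mul, mul_assoc, inv_mul_cancel_left₀ hn]

theorem sum_avg_self_zero :
    ∑ χ : IrrCharacter G, avg (χ : G → ℂ) u 0 * conj (avg (χ : G → ℂ) u 0) = 24 := by
  classical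
  rw [h.sum_avg_mul]
  have e : (Finset.univ.filter fun x : (Cn t) => x * u ^ 0 * x⁻¹ * (u ^ 0)⁻¹ ∈ (On t)).card = Nat.card (Cn t) := by
    rw [Finset.filter_true_of_mem (fun x _ => by simp), Finset.card_univ, Nat.card_eq_fintype_card]
  rw [e, ← Subgroup.card_mul_index (On t), h.index, Nat.cast_mul, inv_mul_cancel_left₀
    (Nat.cast_ne_zero.mpr Nat.card_pos.ne')]
  norm_num

theorem sum_avg_ne {k l : ℕ} (hk : k < 3) (hl : l < 3) (hkl : k ≠ l) :
    ∑ χ : IrrCharacter G, avg (χ : G → ℂ) u k * conj (avg (χ : G → ℂ) u l) = 0 := by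
  classical
  rw [h.sum_avg_mul]
  rw [Finset.filter_false_of_mem, Finset.card_empty, Nat.cast_zero, mul_zero]
  intro x _ hx
  have := h.kill _ hx
  simp only [map_mul, map_inv, map_pow] at this
  rw [mul_right_comm (ω x), mul_inv_cancel, one_mul, mul_inv_eq_one] at this
  exact hkl (h.omega_inj hl hk this).symm

theorem sum_avg_self {k : ℕ} (hk : k = 1 ∨ k = 2) :
    ∑ χ : IrrCharacter G, avg (χ : G → ℂ) u k * conj (avg (χ : G → ℂ) u k) = 6 := by
  classical
  haveI := Solv.pPrimeCore_normal (G := (Cn t)) 2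
  rw [h.sum_avg_mul]
  have e : ∀ x : (Cn t), x * u ^ k * x⁻¹ * (u ^ k)⁻¹ ∈ (On t) ↔ x * u * x⁻¹ * u⁻¹ ∈ (On t) := by
    intro x
    rcases hk with rfl | rfl
    · rw [pow_one]
    rw [← QuotientGroup.eq_one_iff (N := (On t)), ← QuotientGroup.eq_one_iff (N := (On t))]
    simp only [QuotientGroup.mk_mul, QuotientGroup.mk_inv, mul_inv_eq_one, QuotientGroup.mk_pow]
    rw [← conj_pow]
    refine ⟨fun he => ?_, fun he => by rw [he]⟩
    have h3 : ((u : (Cn t) ⧸ (On t))) ^ 3 = 1 := by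
      rw [← QuotientGroup.mk_pow, (QuotientGroup.eq_one_iff _).mpr h.u_cube]
    have h4 : ((x : (Cn t) ⧸ (On t)) * u * (x : (Cn t) ⧸ (On t))⁻¹) ^ 3 = 1 := by rw [conj_pow, h3]; group
    calc (x : (Cn t) ⧸ (On t)) * u * (x : (Cn t) ⧸ (On t))⁻¹
        = ((x : (Cn t) ⧸ (On t)) * u * (x : (Cn t) ⧸ (On t))⁻¹) ^ 3 * ((x : (Cn t) ⧸ (On t)) * u * (x : (Cn t) ⧸ (On t))⁻¹) := by
          rw [h4, one_mul]
      _ = (((x : (Cn t) ⧸ (On t)) * u * (x : (Cn t) ⧸ (On t))⁻¹) ^ 2) ^ 2 := by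
          rw [← pow_succ, ← pow_mul]
      _ = ((u : (Cn t) ⧸ (On t)) ^ 2) ^ 2 := by rw [he]
      _ = (u : (Cn t) ⧸ (On t)) ^ 3 * u := by group
      _ = u := by rw [h3, one_mul]
  rw [Finset.filter_congr (fun x _ => e x), ← Fintype.card_subtype, ← Nat.card_eq_fintype_card,
    h.cent, Nat.cast_mul, mul_comm ((6 : ℕ) : ℂ), inv_mul_cancel_left₀
    (Nat.cast_ne_zero.mpr Nat.card_pos.ne')]
  norm_num

theorem avg_one (k : ℕ) : avg (fun _ : G => (1 : ℂ)) u k = 1 := by
  rw [avg, Finset.sum_const, Finset.card_univ, ← Nat.card_eq_fintype_card, nsmul_eq_mul, mul_one,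
    inv_mul_cancel₀ (Nat.cast_ne_zero.mpr Nat.card_pos.ne')]

theorem sum_deg_avg (k : ℕ) :
    ∑ χ : IrrCharacter G, avg (χ : G → ℂ) u k * (χ : G → ℂ) 1 = 0 := by
  classical
  simp only [avg, mul_assoc, ← Finset.mul_sum, Finset.sum_mul]
  rw [Finset.sum_comm, Finset.sum_eq_zero fun o _ => ?_, mul_zero]
  rw [Finset.sum_congr rfl fun χ _ => by
    rw [← conj_char_one (irr_isCharacter χ.2)], second_orth, if_neg]
  intro hc
  have h1 := isConj_one_left.mp hc
  have h2 := h.pow_eq_t (k := k) o.2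
  rw [h1, one_pow] at h2
  have := h.order
  rw [← h2, orderOf_one] at this
  norm_num at this

open scoped Classical in
theorem sum_avg_sq_div {k : ℕ} (hk : k = 1 ∨ k = 2) :
    ∑ χ : IrrCharacter G, conj (avg (χ : G → ℂ) u k) *
      ((χ : G → ℂ) t ^ 2 / (χ : G → ℂ) 1) = 0 := by
  have hG : (Nat.card G : ℂ) ≠ 0 := Nat.cast_ne_zero.mpr Nat.card_pos.ne'
  refine (mul_eq_zero.mp (?_ : (Nat.card G : ℂ) * _ = 0)).resolve_left hG
  rw [Finset.mul_sum]
  have e : ∀ χ : IrrCharacter G, (Nat.card G : ℂ) * (conj (avg (χ : G → ℂ) u k) *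
      ((χ : G → ℂ) t ^ 2 / (χ : G → ℂ) 1)) =
      ∑ s : G, (χ : G → ℂ) (t * (s * t * s⁻¹)) * conj (avg (χ : G → ℂ) u k) := fun χ => by
    have h1 := sum_conj_mul χ.2 t t
    have hne := irr_one_ne_zero χ.2
    rw [← Finset.sum_mul]
    field_simp
    linear_combination (-(conj (avg (χ : G → ℂ) u k))) * h1
  rw [Finset.sum_congr rfl fun χ _ => e χ, Finset.sum_comm]
  refine Finset.sum_eq_zero fun s _ => ?_
  simp only [avg, map_mul, map_inv₀, map_sum, map_natCast, Finset.mul_sum]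
  rw [Finset.sum_comm]
  refine Finset.sum_eq_zero fun o _ => ?_
  rw [Finset.sum_congr rfl fun χ _ => mul_left_comm _ _ _, ← Finset.mul_sum, second_orth, if_neg,
    mul_zero]
  intro hc
  obtain ⟨c, hc'⟩ := isConj_iff.mp hc
  set y : (Cn t) := u ^ k * (o : (Cn t)) with hy
  set a := c * t * c⁻¹ with ha
  have haa : a * a = 1 := by
    rw [ha, show c * t * c⁻¹ * (c * t * c⁻¹) = c * (t * t) * c⁻¹ by group, h.t_sq]; group
  have hti : t⁻¹ = t := inv_eq_of_mul_eq_one_left h.t_sq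
  have hinv : a * (t * (y : G)) * a⁻¹ = (t * (y : G))⁻¹ := by
    rw [← hc', ha]
    simp only [mul_inv_rev, inv_inv, hti]
    calc c * t * c⁻¹ * (c * (t * (s * t * s⁻¹)) * c⁻¹) * (c * (t * c⁻¹))
        = c * ((t * t) * (s * t * s⁻¹) * t) * c⁻¹ := by group
      _ = _ := by rw [h.t_sq]; group
  have hat : a * t * a⁻¹ = t := by
    have := congrArg (fun z => z ^ orderOf y) hinv
    simp only [conj_pow, inv_pow] at this
    rw [h.pow_eq_t o.2, hti] at this
    exact this
  have haC : a ∈ (Cn t) := Subgroup.mem_centralizer_singleton_iff.mpr (mul_inv_eq_iff_eq_mul.mp hat)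
  have hy' : a * (y : G) * a⁻¹ = (y : G)⁻¹ := by
    have h1 : a * (t * (y : G)) * a⁻¹ = (a * t * a⁻¹) * (a * y * a⁻¹) := by group
    rw [h1, hat, mul_inv_rev t (y : G), hti, ← Subgroup.coe_inv,
      Subgroup.mem_centralizer_singleton_iff.mp y⁻¹.2] at hinv
    rw [← Subgroup.coe_inv]
    exact mul_left_cancel hinv
  have h3 : (⟨a, haC⟩ : (Cn t)) * y * (⟨a, haC⟩ : (Cn t))⁻¹ = y⁻¹ := Subtype.ext hy'
  have h4 := congrArg ω h3
  simp only [map_mul, map_inv] at h4
  rw [mul_right_comm, mul_inv_cancel, one_mul, hy, h.omega_val o.2] at h4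
  have h5 : ω u ^ (2 * k) = 1 := by
    rw [two_mul, pow_add, ← eq_inv_iff_mul_eq_one]; exact h4
  have h6 : orderOf (ω u) = 3 :=
    haveI := Fact.mk Nat.prime_three
    orderOf_eq_prime (h.cube u) h.ne_one
  have := orderOf_dvd_of_pow_eq_one h5
  rw [h6] at this
  omega

end SectData

end Cfsg.Agent.Solv.EightSection
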